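import Groth.Agent.L29.TorExt.Psi
import Groth.Agent.L16.HomSh.Basic
import Groth.Agent.L19.OmegaSh.Conormal
import Groth.Prelude.Def_Omega2

/-!
# The alternating multilinear classes at a point
-/

set_option autoImplicit false
set_option backward.isDefEq.respectTransparency false
set_option backward.isDefEq.respectTransparency.types false
set_option linter.style.haveILetI false

universe u

open CategoryTheory CategoryTheory.Limits AlgebraicGeometry TopologicalSpace Opposite OmegaSh
open Groth.L18.Frame (rs rs_rs rs_self pull)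

noncomputable section

namespace Groth.L29.TorExt

variable {X Y : Scheme.{u}}

/-- Germs of sections. -/
abbrev gs (N : X.Modules) {U : X.Opens} {x : X} (hx : x ∈ U) (s : Γ(N, U)) : (Groth.L00.Stk.F X x).obj N :=
  Groth.L00.StalkTensor.germ (Groth.L00.Tensor.pre N) x hx s

theorem stl_gs {M N : X.Modules} (f : M ⟶ N) {U : X.Opens} {x : X} (hx : x ∈ U) (s : Γ(M, U)) :
    stl f x (gs M hx s) = gs N hx (f.app U s) :=
  Groth.L17.ClosedPush.stk_map_germ f x hx s

theorem gs_rs (N : X.Modules) {U V : X.Opens} (h : V ≤ U) {x : X} (hx : x ∈ V) (s : Γ(N, U)) :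
    gs N hx (rs N h s) = gs N (h hx) s :=
  Groth.L00.StalkTensor.germ_rs (Groth.L00.Tensor.pre N) x (homOfLE h) hx s

theorem gs_smul (N : X.Modules) {U : X.Opens} {x : X} (hx : x ∈ U) (r : Γ(X, U)) (s : Γ(N, U)) :
    gs N hx (r • s) = (X.presheaf.germ U x hx r : X.presheaf.stalk x) • gs N hx s :=
  Groth.L00.StalkTensor.germ_smul' (Groth.L00.Tensor.pre N) x hx r s

theorem exists_gs (N : X.Modules) {x : X} (p : (Groth.L00.Stk.F X x).obj N) :
    ∃ (U : X.Opens) (hx : x ∈ U) (s : Γ(N, U)), gs N hx s = p :=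
  Groth.L00.StalkTensor.exists_germ (Groth.L00.Tensor.pre N) x p

theorem exists_eq_nhd (N : X.Modules) {U V : X.Opens} {x : X} (hU : x ∈ U) (hV : x ∈ V) {s : Γ(N, U)}
    {t : Γ(N, V)} (h : gs N hU s = gs N hV t) :
    ∃ W : X.Opens, x ∈ W ∧ W ≤ U ⊓ V ∧ ∀ z, z ∈ W → ∀ (hzU : z ∈ U) (hzV : z ∈ V),
      gs N hzU s = gs N hzV t := by
  obtain ⟨W, hW, a, b, e⟩ := Groth.L00.StalkTensor.germ_eq (Groth.L00.Tensor.pre N) x hU hV h
  refine ⟨W, hW, le_inf a.le b.le, fun z hz hzU hzV => ?_⟩
  have := congrArg (Groth.L00.StalkTensor.germ (Groth.L00.Tensor.pre N) z hz) e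
  rwa [Groth.L00.StalkTensor.germ_rs, Groth.L00.StalkTensor.germ_rs] at this

theorem gs_ext (N : X.Modules) {U : X.Opens} {s t : Γ(N, U)} (h : ∀ x (hx : x ∈ U), gs N hx s = gs N hx t) :
    s = t :=
  TopCat.Presheaf.section_ext (⟨N.presheaf, N.isSheaf⟩ : TopCat.Sheaf Ab.{u} X) U s t h

theorem pm_gs (h : Y ⟶ X) (N : X.Modules) {V : X.Opens} {y : Y} (hy : h y ∈ V) (n : Γ(N, V)) :
    Groth.L14.Quot.pm h N y (gs N hy n) =
      gs ((Scheme.Modules.pullback h).obj N) (show y ∈ h ⁻¹ᵁ V from hy) (pull h N V n) :=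
  (congrArg (Groth.L17.ClosedPush.c₀ h _ y)
    (Groth.L17.ClosedPush.stk_map_germ ((Scheme.Modules.pullbackPushforwardAdjunction h).unit.app N) (h y) hy n)).trans
    (Groth.L17.ClosedPush.c₀_germ h _ y hy _)

/-- The stalk of the structure module is the local ring. -/
def oneEquiv (x : X) :
    X.presheaf.stalk x ≃ₗ[X.presheaf.stalk x] (Groth.L00.Stk.F X x).obj (Coh.structureModule X) :=
  LinearEquiv.ofBijective
    (LinearMap.toSpanSingleton (X.presheaf.stalk x) ((Coh.structureModule X).presheaf.stalk x)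
      (Groth.L22.oneGerm x))
    ⟨(injective_iff_map_eq_zero _).2 fun a ha => Groth.L22.eq_zero_of_smul_oneGerm ha,
      Groth.L22.stalk_smul_oneGerm_surjective x⟩

/-- Values of the ideal module at a point. -/
def jv₀ (I : X.IdealSheafData) (x : X) :
    (Groth.L00.Stk.F X x).obj (ClSub.idealMod I) →ₗ[X.presheaf.stalk x] X.presheaf.stalk x :=
  (oneEquiv x).symm.toLinearMap.comp (stl (ClSub.idealModι I) x)

theorem jv₀_gs (I : X.IdealSheafData) {U : X.Opens} {x : X} (hx : x ∈ U) (s : Γ(ClSub.idealMod I, U)) :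
    jv₀ I x (gs _ hx s) = X.presheaf.germ U x hx (idealSect I U s) := by
  show (oneEquiv x).symm (stl (ClSub.idealModι I) x (gs _ hx s)) = _
  rw [LinearEquiv.symm_apply_eq, stl_gs]
  exact (Groth.L22.germ_smul_oneGerm hx (idealSect I U s)).symm

variable (i : Y ⟶ X) [IsClosedImmersion i]

theorem jv₀_mem (y : Y) (q : (Groth.L00.Stk.F X (i y)).obj (ClSub.idealMod i.ker)) :
    jv₀ i.ker (i y) q ∈ stIdeal i y := by
  obtain ⟨U, hU, s, rfl⟩ := exists_gs _ q
  rw [jv₀_gs, RingHom.mem_ker]
  refine (Scheme.Hom.germ_stalkMap_apply i U y hU _).trans ?_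
  rw [Groth.L19.OmegaSh.app_idealSect]
  exact map_zero _

/-- Values of the ideal module, in the ideal. -/
def jv (y : Y) :
    (Groth.L00.Stk.F X (i y)).obj (ClSub.idealMod i.ker) →ₗ[X.presheaf.stalk (i y)] stIdeal i y :=
  (jv₀ i.ker (i y)).codRestrict _ (jv₀_mem i y)

/-- Pulling germs of the ideal back to the conormal sheaf. -/
def κ (y : Y) :
    (Groth.L00.Stk.F X (i y)).obj (ClSub.idealMod i.ker) →ₛₗ[(i.stalkMap y).hom]
      (Groth.L00.Stk.F Y y).obj (Omega.conormal i) :=
  Groth.L14.Quot.pm i (ClSub.idealMod i.ker) y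

theorem κ_surjective (y : Y) : Function.Surjective (κ i y) :=
  Groth.L14.Quot.pm_surjective i _ y

theorem jv_mem_sq (y : Y) {q : (Groth.L00.Stk.F X (i y)).obj (ClSub.idealMod i.ker)} (h : κ i y q = 0) :
    (jv i y q : X.presheaf.stalk (i y)) ∈ stIdeal i y * stIdeal i y := by
  have h' := (Groth.L14.Quot.pm_eq_zero_iff i _ y q).1 h
  refine Submodule.smul_induction_on h' (fun a ha v _ => ?_) (fun a b ha hb => ?_)
  · rw [map_smul]
    exact Ideal.mul_mem_mul ha (jv i y v).2
  · rw [map_add]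
    exact add_mem ha hb

variable (M : Y.Modules)

theorem smul_stalk_push_eq_zero (y : Y) (a : X.presheaf.stalk (i y)) (ha : a ∈ stIdeal i y)
    (t : (Groth.L00.Stk.F X (i y)).obj ((Scheme.Modules.pushforward i).obj M)) : a • t = 0 := by
  refine (Groth.L17.ClosedPush.c₀_bijective i M y).1 ?_
  refine (Groth.L17.ClosedPush.c₀_smul i M y a t).trans ?_
  rw [show Groth.L00.PullStalk.φ i y a = 0 from RingHom.mem_ker.1 ha, zero_smul, map_zero]

variable {M} (S : SheafRes ((Scheme.Modules.pushforward i).obj M))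

/-- The class of a tuple of germs of the ideal and a germ of `i_* M`. -/
def θ (n : ℕ) (y : Y) (q : Fin n → (Groth.L00.Stk.F X (i y)).obj (ClSub.idealMod i.ker))
    (t : (Groth.L00.Stk.F X (i y)).obj ((Scheme.Modules.pushforward i).obj M)) :
    (Groth.L00.Stk.F Y y).obj (Hs i S n) :=
  ψ i S n y (φ (S.stalk (i y)) (smul_stalk_push_eq_zero i M y) (fun k => jv i y (q k)) t)

theorem θ_congr (n : ℕ) (y : Y) {q q' : Fin n → (Groth.L00.Stk.F X (i y)).obj (ClSub.idealMod i.ker)}
    (h : ∀ k, κ i y (q k) = κ i y (q' k))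
    (t : (Groth.L00.Stk.F X (i y)).obj ((Scheme.Modules.pushforward i).obj M)) :
    θ i S n y q t = θ i S n y q' t := by
  classical
  have key : ∀ s : Finset (Fin n), θ i S n y (s.piecewise q' q) t = θ i S n y q t := by
    intro s
    induction s using Finset.induction_on with
    | empty => rw [Finset.piecewise_empty]
    | insert a s ha ih =>
      refine Eq.trans ?_ ih
      simp only [θ]
      refine congrArg (ψ i S n y) ?_
      rw [← φAlt_apply, ← φAlt_apply]
      let x : Fin n → stIdeal i y := fun k => jv i y (s.piecewise q' q k)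
      have hx : (fun k => jv i y ((insert a s).piecewise q' q k)) =
          Function.update x a (jv i y (q' a)) := by
        funext k
        rcases eq_or_ne k a with rfl | hk
        · simp
        · simp [x, hk, Finset.piecewise]
      have hx' : (fun k => jv i y (s.piecewise q' q k)) = Function.update x a (jv i y (q a)) := by
        funext k
        rcases eq_or_ne k a with rfl | hk
        · simp [x, ha]
        · simp [x, hk]
      rw [hx, hx', ← sub_eq_zero, ← AlternatingMap.map_update_sub]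
      refine φAlt_update_eq_zero _ t x a _ ?_
      rw [← map_sub]
      exact jv_mem_sq i y (by rw [map_sub, h a, sub_self])
  rw [← key Finset.univ, Finset.piecewise_univ]

/-- Lifts of germs of the conormal sheaf. -/
def lift (y : Y) (v : (Groth.L00.Stk.F Y y).obj (Omega.conormal i)) :
    (Groth.L00.Stk.F X (i y)).obj (ClSub.idealMod i.ker) :=
  (κ_surjective i y v).choose

theorem κ_lift (y : Y) (v : (Groth.L00.Stk.F Y y).obj (Omega.conormal i)) : κ i y (lift i y v) = v :=
  (κ_surjective i y v).choose_spec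

/-- The germ of `i_* M` of a germ of `M`. -/
def unc (y : Y) (m : (Groth.L00.Stk.F Y y).obj M) :
    (Groth.L00.Stk.F X (i y)).obj ((Scheme.Modules.pushforward i).obj M) :=
  (Equiv.ofBijective _ (Groth.L17.ClosedPush.c₀_bijective i M y)).symm m

theorem c₀_unc (y : Y) (m : (Groth.L00.Stk.F Y y).obj M) :
    Groth.L17.ClosedPush.c₀ i M y (unc i y m) = m :=
  (Equiv.ofBijective _ (Groth.L17.ClosedPush.c₀_bijective i M y)).apply_symm_apply m

theorem unc_c₀ (y : Y) (t : (Groth.L00.Stk.F X (i y)).obj ((Scheme.Modules.pushforward i).obj M)) :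
    unc i y (Groth.L17.ClosedPush.c₀ i M y t) = t :=
  (Equiv.ofBijective _ (Groth.L17.ClosedPush.c₀_bijective i M y)).symm_apply_apply t

/-- The class of a tuple of germs of the conormal sheaf and a germ of `M`. -/
def Θ (n : ℕ) (y : Y) (v : Fin n → (Groth.L00.Stk.F Y y).obj (Omega.conormal i))
    (m : (Groth.L00.Stk.F Y y).obj M) : (Groth.L00.Stk.F Y y).obj (Hs i S n) :=
  θ i S n y (fun k => lift i y (v k)) (unc i y m)

theorem Θ_eq (n : ℕ) (y : Y) (q : Fin n → (Groth.L00.Stk.F X (i y)).obj (ClSub.idealMod i.ker))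
    (t : (Groth.L00.Stk.F X (i y)).obj ((Scheme.Modules.pushforward i).obj M))
    {v : Fin n → (Groth.L00.Stk.F Y y).obj (Omega.conormal i)} (hv : ∀ k, κ i y (q k) = v k)
    {m : (Groth.L00.Stk.F Y y).obj M} (hm : Groth.L17.ClosedPush.c₀ i M y t = m) :
    Θ i S n y v m = θ i S n y q t := by
  rw [Θ, ← hm, unc_c₀]
  exact θ_congr i S n y (fun k => (κ_lift i y (v k)).trans (hv k).symm) t

theorem Θ_add_right (n : ℕ) (y : Y) (v : Fin n → (Groth.L00.Stk.F Y y).obj (Omega.conormal i))
    (m m' : (Groth.L00.Stk.F Y y).obj M) : Θ i S n y v (m + m') = Θ i S n y v m + Θ i S n y v m' := by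
  rw [Θ_eq i S n y (fun k => lift i y (v k)) (unc i y m + unc i y m') (fun k => κ_lift i y _)
    (m := m + m') ((map_add _ _ _).trans (congrArg₂ _ (c₀_unc i y m) (c₀_unc i y m')))]
  simp only [θ, φ_add, map_add]
  rfl

theorem Θ_smul_right (n : ℕ) (y : Y) (v : Fin n → (Groth.L00.Stk.F Y y).obj (Omega.conormal i))
    (b : Y.presheaf.stalk y) (m : (Groth.L00.Stk.F Y y).obj M) :
    Θ i S n y v (b • m) = b • Θ i S n y v m := by
  obtain ⟨a, ha⟩ := i.stalkMap_surjective y b
  subst ha
  rw [Θ_eq i S n y (fun k => lift i y (v k)) (a • unc i y m) (fun k => κ_lift i y _)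
    (m := (i.stalkMap y).hom a • m)
    ((Groth.L17.ClosedPush.c₀_smul i M y a _).trans (congrArg _ (c₀_unc i y m)))]
  simp only [θ, φ_smul, LinearMap.map_smulₛₗ]
  rfl

theorem θ_update (n : ℕ) (y : Y) (q : Fin n → (Groth.L00.Stk.F X (i y)).obj (ClSub.idealMod i.ker))
    (t : (Groth.L00.Stk.F X (i y)).obj ((Scheme.Modules.pushforward i).obj M)) (k : Fin n)
    (c : (Groth.L00.Stk.F X (i y)).obj (ClSub.idealMod i.ker)) :
    θ i S n y (Function.update q k c) t =
      ψ i S n y (φAlt (S.stalk (i y)) (stIdeal i y) (smul_stalk_push_eq_zero i M y) n t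
        (Function.update (fun l => jv i y (q l)) k (jv i y c))) := by
  unfold θ
  rw [φAlt_apply]
  refine congrArg (ψ i S n y) (congrArg (fun x => φ (S.stalk (i y)) _ x t) ?_)
  funext l
  exact Function.apply_update (fun _ => jv i y) q k c l

theorem θ_update_add (n : ℕ) (y : Y) (q : Fin n → (Groth.L00.Stk.F X (i y)).obj (ClSub.idealMod i.ker))
    (t : (Groth.L00.Stk.F X (i y)).obj ((Scheme.Modules.pushforward i).obj M)) (k : Fin n)
    (c c' : (Groth.L00.Stk.F X (i y)).obj (ClSub.idealMod i.ker)) :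
    θ i S n y (Function.update q k (c + c')) t =
      θ i S n y (Function.update q k c) t + θ i S n y (Function.update q k c') t := by
  let f := φAlt (S.stalk (i y)) (stIdeal i y) (smul_stalk_push_eq_zero i M y) n t
  have e := ((congrArg (fun z => ψ i S n y (f (Function.update (fun l => jv i y (q l)) k z))) ((jv i y).map_add c c')).trans
    (congrArg (ψ i S n y) (f.map_update_add _ _ _ _))).trans ((ψ i S n y).map_add _ _)
  exact (θ_update i S n y q t k (c + c')).trans (e.trans
    (congrArg₂ (· + ·) (θ_update i S n y q t k c).symm (θ_update i S n y q t k c').symm))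

theorem θ_update_smul (n : ℕ) (y : Y) (q : Fin n → (Groth.L00.Stk.F X (i y)).obj (ClSub.idealMod i.ker))
    (t : (Groth.L00.Stk.F X (i y)).obj ((Scheme.Modules.pushforward i).obj M)) (k : Fin n)
    (r : X.presheaf.stalk (i y)) (c : (Groth.L00.Stk.F X (i y)).obj (ClSub.idealMod i.ker)) :
    θ i S n y (Function.update q k (r • c)) t =
      (i.stalkMap y).hom r • θ i S n y (Function.update q k c) t := by
  let f := φAlt (S.stalk (i y)) (stIdeal i y) (smul_stalk_push_eq_zero i M y) n t
  have e := ((congrArg (fun z => ψ i S n y (f (Function.update (fun l => jv i y (q l)) k z))) ((jv i y).map_smul r c)).trans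
    (congrArg (ψ i S n y) (f.map_update_smul _ _ _ _))).trans ((ψ i S n y).map_smulₛₗ _ _)
  exact (θ_update i S n y q t k (r • c)).trans (e.trans (congrArg _ (θ_update i S n y q t k c).symm))

theorem θ_eq_zero_of_eq (n : ℕ) (y : Y) (q : Fin n → (Groth.L00.Stk.F X (i y)).obj (ClSub.idealMod i.ker))
    (t : (Groth.L00.Stk.F X (i y)).obj ((Scheme.Modules.pushforward i).obj M)) {k l : Fin n}
    (hkl : q k = q l) (hne : k ≠ l) : θ i S n y q t = 0 := by
  unfold θ
  rw [← φAlt_apply, AlternatingMap.map_eq_zero_of_eq _ _ (i := k) (j := l) (by simp only [hkl]) hne, map_zero]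

theorem Θ_update (n : ℕ) (y : Y) (v : Fin n → (Groth.L00.Stk.F Y y).obj (Omega.conormal i))
    (m : (Groth.L00.Stk.F Y y).obj M) (k : Fin n) (c : (Groth.L00.Stk.F X (i y)).obj (ClSub.idealMod i.ker)) :
    Θ i S n y (Function.update v k (κ i y c)) m =
      θ i S n y (Function.update (fun l => lift i y (v l)) k c) (unc i y m) :=
  Θ_eq i S n y _ _ (fun l => by
    rcases eq_or_ne l k with rfl | hl
    · simp
    · simp [hl, κ_lift]) (c₀_unc i y m)

theorem Θ_update_add (n : ℕ) (y : Y) (v : Fin n → (Groth.L00.Stk.F Y y).obj (Omega.conormal i))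
    (m : (Groth.L00.Stk.F Y y).obj M) (k : Fin n) (a b : (Groth.L00.Stk.F Y y).obj (Omega.conormal i)) :
    Θ i S n y (Function.update v k (a + b)) m =
      Θ i S n y (Function.update v k a) m + Θ i S n y (Function.update v k b) m := by
  rw [← κ_lift i y a, ← κ_lift i y b, ← map_add, Θ_update, Θ_update, Θ_update, θ_update_add]

theorem Θ_update_smul (n : ℕ) (y : Y) (v : Fin n → (Groth.L00.Stk.F Y y).obj (Omega.conormal i))
    (m : (Groth.L00.Stk.F Y y).obj M) (k : Fin n) (b : Y.presheaf.stalk y)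
    (a : (Groth.L00.Stk.F Y y).obj (Omega.conormal i)) :
    Θ i S n y (Function.update v k (b • a)) m = b • Θ i S n y (Function.update v k a) m := by
  obtain ⟨r, hr⟩ := i.stalkMap_surjective y b
  subst hr
  rw [← κ_lift i y a, ← LinearMap.map_smulₛₗ, Θ_update, Θ_update, θ_update_smul]

attribute [irreducible] θ Θ

/-- `Θ` as an alternating map. -/
def ΘAlt (n : ℕ) (y : Y) (m : (Groth.L00.Stk.F Y y).obj M) :
    (Groth.L00.Stk.F Y y).obj (Omega.conormal i) [⋀^Fin n]→ₗ[Y.presheaf.stalk y]
      (Groth.L00.Stk.F Y y).obj (Hs i S n) where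
  toFun v := Θ i S n y v m
  map_update_add' := by
    intro _ v k a b
    convert Θ_update_add i S n y v m k a b using 4
  map_update_smul' := by
    intro _ v k b a
    convert Θ_update_smul i S n y v m k b a using 4
  map_eq_zero_of_eq' := by
    intro v k l hkl hne
    show Θ i S n y v m = 0
    rw [Θ_eq i S n y (fun j => lift i y (v j)) (unc i y m) (fun j => κ_lift i y _) (c₀_unc i y m)]
    exact θ_eq_zero_of_eq i S n y _ _ (by simp only [hkl]) hne

theorem ΘAlt_apply (n : ℕ) (y : Y) (m : (Groth.L00.Stk.F Y y).obj M)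
    (v : Fin n → (Groth.L00.Stk.F Y y).obj (Omega.conormal i)) : ΘAlt i S n y m v = Θ i S n y v m := rfl

end Groth.L29.TorExt
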