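import Groth.Agent.L04.KSh.RingLevel
import Groth.Agent.L02.Flat
import Mathlib.LinearAlgebra.ExteriorPower.Basis

/-!
# Classes in `H_n (R / J R)` from lifts of Koszul complexes

`R` a resolution of an `A / J`-module `T`; for `x : Fin n → J` and `t : T` a canonical class, alternating
multilinear in `x`, linear in `t`, vanishing if an entry lies in `J²`.
-/

set_option autoImplicit false

universe u

noncomputable section

namespace Groth.L29.TorExt

variable {A : Type u} [CommRing A]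

/-- A resolution by modules, indexed by `ℕ`. -/
structure Res (A : Type u) [CommRing A] (T : Type u) [AddCommGroup T] [Module A T] where
  obj : ℕ → Type u
  [acg : ∀ n, AddCommGroup (obj n)]
  [mdl : ∀ n, Module A (obj n)]
  d : ∀ n, obj (n + 1) →ₗ[A] obj n
  ε : obj 0 →ₗ[A] T
  d_d : ∀ n r, d n (d (n + 1) r) = 0
  ε_d : ∀ r, ε (d 0 r) = 0
  ε_surj : Function.Surjective ε
  exact_zero : ∀ r, ε r = 0 → ∃ s, d 0 s = r
  exact_succ : ∀ n r, d n r = 0 → ∃ s, d (n + 1) s = r

attribute [instance] Res.acg Res.mdl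

section Koszul

variable {M : Type u} [AddCommGroup M] [Module A M]

/-- The Koszul differential. -/
def kD (ξ : M →ₗ[A] A) (n : ℕ) : ⋀[A]^(n + 1) M →ₗ[A] ⋀[A]^n M :=
  exteriorPower.alternatingMapLinearEquiv <|
    ((Groth.L04.KSh.contr ξ).compAlternatingMap (ExteriorAlgebra.ιMulti A (n + 1))).codRestrict
      (⋀[A]^n M) fun e => by
        show Groth.L04.KSh.contr ξ (ExteriorAlgebra.ιMulti A (n + 1) e) ∈ _
        rw [Groth.L04.KSh.contr_ιMulti]
        exact Subtype.coe_prop _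

theorem kD_ι (ξ : M →ₗ[A] A) (n : ℕ) (e : Fin (n + 1) → M) :
    kD ξ n (exteriorPower.ιMulti A (n + 1) e) = KoszSh.dGen ξ n e := by
  rw [kD, exteriorPower.alternatingMapLinearEquiv_apply_ιMulti]
  exact Subtype.ext (Groth.L04.KSh.contr_ιMulti ξ n e)

theorem coe_kD (ξ : M →ₗ[A] A) (n : ℕ) (z : ⋀[A]^(n + 1) M) :
    (kD ξ n z : ExteriorAlgebra A M) = Groth.L04.KSh.contr ξ (z : ExteriorAlgebra A M) := by
  have h : (Submodule.subtype _).comp (kD ξ n) = (Groth.L04.KSh.contr ξ).comp (Submodule.subtype _) := by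
    refine exteriorPower.linearMap_ext ?_
    ext e
    show (kD ξ n (exteriorPower.ιMulti A (n + 1) e) : ExteriorAlgebra A M) = Groth.L04.KSh.contr ξ _
    rw [kD_ι]
    exact (Groth.L04.KSh.contr_ιMulti ξ n e).symm
  exact LinearMap.congr_fun h z

theorem kD_kD (ξ : M →ₗ[A] A) (n : ℕ) (z : ⋀[A]^(n + 2) M) : kD ξ n (kD ξ (n + 1) z) = 0 := by
  refine Subtype.ext ?_
  rw [coe_kD, coe_kD]
  exact CliffordAlgebra.contractLeft_contractLeft (Q := (0 : QuadraticForm A M)) ξ _

theorem kD_mem (ξ : M →ₗ[A] A) {J : Ideal A} (hξ : ∀ m, ξ m ∈ J) (n : ℕ) (z : ⋀[A]^(n + 1) M) :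
    kD ξ n z ∈ J • (⊤ : Submodule A (⋀[A]^n M)) := by
  have hz : z ∈ Submodule.span A (Set.range (exteriorPower.ιMulti A (n + 1) (M := M))) := by
    rw [exteriorPower.ιMulti_span]; trivial
  refine (Submodule.span_le.2 ?_ : _ ≤ (J • (⊤ : Submodule A (⋀[A]^n M))).comap (kD ξ n)) hz
  rintro _ ⟨e, rfl⟩
  show kD ξ n _ ∈ J • (⊤ : Submodule A (⋀[A]^n M))
  rw [kD_ι, KoszSh.dGen]
  exact Submodule.sum_mem _ fun i _ =>
    Submodule.smul_mem_smul (J.mul_mem_left _ (hξ _)) trivial

theorem map_kD {N : Type u} [AddCommGroup N] [Module A N] (u : M →ₗ[A] N) (ξ : N →ₗ[A] A) (n : ℕ)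
    (z : ⋀[A]^(n + 1) M) :
    exteriorPower.map n u (kD (ξ.comp u) n z) = kD ξ n (exteriorPower.map (n + 1) u z) := by
  have h : (exteriorPower.map n u).comp (kD (ξ.comp u) n) = (kD ξ n).comp (exteriorPower.map (n + 1) u) := by
    refine exteriorPower.linearMap_ext ?_
    ext1 e
    simp only [LinearMap.compAlternatingMap_apply, LinearMap.comp_apply, exteriorPower.map_apply_ιMulti, kD_ι,
      KoszSh.dGen, map_sum, map_smul]
    rfl
  exact LinearMap.congr_fun h z

/-- The empty product. -/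
def one₀ (A : Type u) [CommRing A] (M : Type u) [AddCommGroup M] [Module A M] : ⋀[A]^0 M :=
  exteriorPower.ιMulti A 0 ![]

theorem kD_zero (ξ : M →ₗ[A] A) (e : Fin 1 → M) :
    kD ξ 0 (exteriorPower.ιMulti A 1 e) = ξ (e 0) • one₀ A M := by
  rw [kD_ι, KoszSh.dGen, Fin.sum_univ_one]
  simp only [Fin.val_zero, pow_zero, one_mul]
  exact congrArg _ (congrArg _ (Subsingleton.elim _ _))

end Koszul

variable {T : Type u} [AddCommGroup T] [Module A T] (R : Res A T) (J : Ideal A)

/-- Cycles modulo `J`. -/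
def Z : ∀ n, Submodule A (R.obj n)
  | 0 => ⊤
  | n + 1 => (J • (⊤ : Submodule A (R.obj n))).comap (R.d n)

/-- Boundaries modulo `J`. -/
def B (n : ℕ) : Submodule A (R.obj n) := LinearMap.range (R.d n) ⊔ J • ⊤

/-- Homology modulo `J`. -/
abbrev H (n : ℕ) : Type u := (Z R J n) ⧸ ((B R J n).comap (Z R J n).subtype)

variable {R J}

/-- Class of a cycle modulo `J`. -/
def cls (n : ℕ) : Z R J n →ₗ[A] H R J n := Submodule.mkQ _

theorem cls_eq_zero {n : ℕ} (z : Z R J n) : cls n z = 0 ↔ (z : R.obj n) ∈ B R J n :=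
  Submodule.Quotient.mk_eq_zero _

theorem cls_eq {n : ℕ} (z w : Z R J n) : cls n z = cls n w ↔ (z : R.obj n) - w ∈ B R J n :=
  (Submodule.Quotient.eq _).trans Iff.rfl

theorem smul_H_eq_zero {n : ℕ} {a : A} (ha : a ∈ J) (h : H R J n) : a • h = 0 := by
  induction h using Submodule.Quotient.induction_on with
  | H z =>
    show a • cls n z = 0
    rw [← map_smul, cls_eq_zero]
    exact Submodule.mem_sup_right (Submodule.smul_mem_smul ha trivial)

variable {M : Type u} [AddCommGroup M] [Module A M]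

variable (R) in
/-- A chain map from the Koszul complex of `ξ` to `R`, over `t`. -/
structure Lift (ξ : M →ₗ[A] A) (t : T) where
  f : ∀ n, ⋀[A]^n M →ₗ[A] R.obj n
  aug : R.ε (f 0 (one₀ A M)) = t
  comm : ∀ n z, R.d n (f (n + 1) z) = f n (kD ξ n z)

namespace Lift

variable {ξ : M →ₗ[A] A} {t : T}

theorem mem_Z (L : Lift R ξ t) (hξ : ∀ m, ξ m ∈ J) : ∀ (n : ℕ) (z : ⋀[A]^n M), L.f n z ∈ Z R J n
  | 0, _ => trivial
  | n + 1, z => by
    show R.d n (L.f (n + 1) z) ∈ J • (⊤ : Submodule A (R.obj n))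
    rw [L.comm]
    exact Submodule.mem_comap.1 ((Submodule.map_le_iff_le_comap.1
      ((Submodule.map_smul'' J ⊤ (L.f n)).le.trans (Submodule.smul_mono le_rfl le_top))) (kD_mem ξ hξ n z))

/-- The classes of a lift. -/
def toH (L : Lift R ξ t) (hξ : ∀ m, ξ m ∈ J) (n : ℕ) : ⋀[A]^n M →ₗ[A] H R J n :=
  (cls n).comp ((L.f n).codRestrict (Z R J n) (L.mem_Z hξ n))

theorem toH_apply (L : Lift R ξ t) (hξ : ∀ m, ξ m ∈ J) (n : ℕ) (z : ⋀[A]^n M) :
    L.toH hξ n z = cls n ⟨L.f n z, L.mem_Z hξ n z⟩ := rfl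

/-- Lifts compose with maps of free modules. -/
def comap {N : Type u} [AddCommGroup N] [Module A N] {ζ : N →ₗ[A] A} (L : Lift R ζ t) (u : M →ₗ[A] N) :
    Lift R (ζ.comp u) t where
  f n := (L.f n).comp (exteriorPower.map n u)
  aug := by
    show R.ε (L.f 0 (exteriorPower.map 0 u (one₀ A M))) = t
    rw [one₀, exteriorPower.map_apply_ιMulti, show u ∘ ![] = ![] from Subsingleton.elim _ _]
    exact L.aug
  comm n z := by
    show R.d n (L.f (n + 1) (exteriorPower.map (n + 1) u z)) = L.f n (exteriorPower.map n u (kD _ n z))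
    rw [L.comm, map_kD]

/-- Lifts add. -/
def add {t' : T} (L : Lift R ξ t) (L' : Lift R ξ t') : Lift R ξ (t + t') where
  f n := L.f n + L'.f n
  aug := by rw [LinearMap.add_apply, map_add, L.aug, L'.aug]
  comm n z := by rw [LinearMap.add_apply, map_add, L.comm, L'.comm]; rfl

/-- Lifts scale. -/
def smul (a : A) (L : Lift R ξ t) : Lift R ξ (a • t) where
  f n := a • L.f n
  aug := by rw [LinearMap.smul_apply, map_smul, L.aug]
  comm n z := by rw [LinearMap.smul_apply, map_smul, L.comm]; rfl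

end Lift

theorem ext₀ {P : Type u} [AddCommGroup P] [Module A P] {f g : ⋀[A]^0 M →ₗ[A] P}
    (h : f (one₀ A M) = g (one₀ A M)) : f = g := by
  refine exteriorPower.linearMap_ext ?_
  ext1 e
  rw [show e = ![] from Subsingleton.elim _ _]
  exact h

theorem apply_kD_zero (hT : ∀ a ∈ J, ∀ t : T, a • t = 0) (ξ : M →ₗ[A] A) (hξ : ∀ m, ξ m ∈ J)
    (g : ⋀[A]^0 M →ₗ[A] T) {t : T} (hg : g (one₀ A M) = t) (z : ⋀[A]^(0 + 1) M) : g (kD ξ 0 z) = 0 := by
  have hz : z ∈ Submodule.span A (Set.range (exteriorPower.ιMulti A (0 + 1) (M := M))) := by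
    rw [exteriorPower.ιMulti_span]; trivial
  refine (Submodule.span_le.2 ?_ : _ ≤ LinearMap.ker (g.comp (kD ξ 0))) hz
  rintro _ ⟨e, rfl⟩
  show g (kD ξ 0 (exteriorPower.ιMulti A (0 + 1) e)) = 0
  rw [kD_ι, KoszSh.dGen, map_sum]
  refine Finset.sum_eq_zero fun i _ => ?_
  rw [map_smul, show (fun j => e (i.succAbove j)) = ![] from Subsingleton.elim _ _]
  exact hT _ (J.mul_mem_left _ (hξ _)) _

variable (R) in
theorem exists_lift [Module.Free A M] (hT : ∀ a ∈ J, ∀ t : T, a • t = 0) (ξ : M →ₗ[A] A)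
    (hξ : ∀ m, ξ m ∈ J) (t : T) : Nonempty (Lift R ξ t) := by
  obtain ⟨r₀, hr₀⟩ := R.ε_surj t
  let f₀ : ⋀[A]^0 M →ₗ[A] R.obj 0 := exteriorPower.alternatingMapLinearEquiv (AlternatingMap.constOfIsEmpty A M _ r₀)
  have hf₀ : R.ε (f₀ (one₀ A M)) = t := by
    rw [one₀]
    simp only [f₀, exteriorPower.alternatingMapLinearEquiv_apply_ιMulti]
    exact hr₀
  -- the inductive step
  have step : ∀ (n : ℕ) (g : ⋀[A]^n M →ₗ[A] R.obj n),
      (∀ z, ∃ s, R.d n s = g (kD ξ n z)) → ∃ g' : ⋀[A]^(n + 1) M →ₗ[A] R.obj (n + 1),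
        ∀ z, R.d n (g' z) = g (kD ξ n z) := by
    intro n g hg
    obtain ⟨g', hg'⟩ := Module.projective_lifting_property (R.d n).rangeRestrict
      ((g.comp (kD ξ n)).codRestrict (LinearMap.range (R.d n)) hg) (LinearMap.surjective_rangeRestrict _)
    exact ⟨g', fun z => congrArg Subtype.val (LinearMap.congr_fun hg' z)⟩
  have base : ∀ z, ∃ s, R.d 0 s = f₀ (kD ξ 0 z) := fun z =>
    R.exact_zero _ (apply_kD_zero hT ξ hξ (R.ε.comp f₀) hf₀ z)
  let P : ℕ → Type u := fun n => {g : ⋀[A]^n M →ₗ[A] R.obj n // ∀ z, ∃ s, R.d n s = g (kD ξ n z)}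
  let F : ∀ n, P n := fun n => Nat.rec (motive := P) ⟨f₀, base⟩
    (fun n g => ⟨(step n g.1 g.2).choose, fun z => R.exact_succ n _ <| by
      rw [(step n g.1 g.2).choose_spec, kD_kD, map_zero]⟩) n
  exact ⟨⟨fun n => (F n).1, hf₀, fun n z => (step n (F n).1 (F n).2).choose_spec z⟩⟩

theorem toH_eq [Module.Free A M] {ξ : M →ₗ[A] A} {t : T} (L L' : Lift R ξ t) (hξ : ∀ m, ξ m ∈ J) (n : ℕ) :
    L.toH hξ n = L'.toH hξ n := by
  let δ : ∀ n, ⋀[A]^n M →ₗ[A] R.obj n := fun n => L.f n - L'.f n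
  have hδ : ∀ n z, R.d n (δ (n + 1) z) = δ n (kD ξ n z) := fun n z => by
    simp only [δ, LinearMap.sub_apply, map_sub, L.comm, L'.comm]
  have lift1 : ∀ (n : ℕ) (g : ⋀[A]^n M →ₗ[A] R.obj n), (∀ z, ∃ s, R.d n s = g z) →
      ∃ h : ⋀[A]^n M →ₗ[A] R.obj (n + 1), ∀ z, R.d n (h z) = g z := by
    intro n g hg
    obtain ⟨h, hh⟩ := Module.projective_lifting_property (R.d n).rangeRestrict
      (g.codRestrict (LinearMap.range (R.d n)) hg) (LinearMap.surjective_rangeRestrict _)
    exact ⟨h, fun z => congrArg Subtype.val (LinearMap.congr_fun hh z)⟩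
  -- a homotopy in every degree
  have key : ∀ n, ∃ (h : ⋀[A]^n M →ₗ[A] R.obj (n + 1)),
      (∀ z, δ n z - R.d n (h z) ∈ J • (⊤ : Submodule A (R.obj n))) ∧
        ∀ z, R.d n (δ (n + 1) z - h (kD ξ n z)) = 0 := by
    intro n
    induction n with
    | zero =>
      obtain ⟨h, hh⟩ := lift1 0 (δ 0) fun z => R.exact_zero _ (by
        have : R.ε.comp (δ 0) = 0 := ext₀ (by
          simp only [δ, LinearMap.comp_apply, LinearMap.sub_apply, map_sub, L.aug, L'.aug, sub_self,
            LinearMap.zero_apply])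
        exact LinearMap.congr_fun this z)
      exact ⟨h, fun z => by rw [hh, sub_self]; exact Submodule.zero_mem _,
        fun z => by rw [map_sub, hδ, hh, sub_self]⟩
    | succ n ih =>
      obtain ⟨h, -, h2⟩ := ih
      obtain ⟨h', hh'⟩ := lift1 (n + 1) (δ (n + 1) - h.comp (kD ξ n)) fun z => R.exact_succ n _ (h2 z)
      refine ⟨h', fun z => ?_, fun z => ?_⟩
      · rw [hh']
        simp only [LinearMap.sub_apply, LinearMap.comp_apply, sub_sub_cancel]
        exact Submodule.mem_comap.1 ((Submodule.map_le_iff_le_comap.1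
          ((Submodule.map_smul'' J ⊤ h).le.trans (Submodule.smul_mono le_rfl le_top))) (kD_mem ξ hξ n z))
      · rw [map_sub, hδ, hh']
        simp only [LinearMap.sub_apply, LinearMap.comp_apply, kD_kD, map_zero, sub_zero, sub_self]
  obtain ⟨h, h1, -⟩ := key n
  refine LinearMap.ext fun z => ?_
  rw [Lift.toH_apply, Lift.toH_apply, cls_eq]
  have := h1 z
  simp only [δ, LinearMap.sub_apply] at this
  rw [show L.f n z - L'.f n z = R.d n (h z) + (L.f n z - L'.f n z - R.d n (h z)) by abel]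
  exact add_mem (Submodule.mem_sup_left ⟨_, rfl⟩) (Submodule.mem_sup_right this)

variable (R J) in
/-- The classes of the Koszul complex of `ξ` in `H (R / J R)`. -/
def Φ [Module.Free A M] (hT : ∀ a ∈ J, ∀ t : T, a • t = 0) (ξ : M →ₗ[A] A) (hξ : ∀ m, ξ m ∈ J) (n : ℕ) :
    T →ₗ[A] ⋀[A]^n M →ₗ[A] H R J n where
  toFun t := (exists_lift R hT ξ hξ t).some.toH hξ n
  map_add' t t' := by
    rw [toH_eq _ ((exists_lift R hT ξ hξ t).some.add (exists_lift R hT ξ hξ t').some)]
    refine LinearMap.ext fun z => ?_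
    simp only [LinearMap.add_apply, Lift.toH_apply, ← map_add]
    rfl
  map_smul' a t := by
    rw [toH_eq _ ((exists_lift R hT ξ hξ t).some.smul a)]
    refine LinearMap.ext fun z => ?_
    simp only [LinearMap.smul_apply, Lift.toH_apply, RingHom.id_apply, ← map_smul]
    rfl

theorem Φ_eq [Module.Free A M] (hT : ∀ a ∈ J, ∀ t : T, a • t = 0) {ξ : M →ₗ[A] A} {t : T} (L : Lift R ξ t)
    (hξ : ∀ m, ξ m ∈ J) (n : ℕ) : Φ R J hT ξ hξ n t = L.toH hξ n :=
  toH_eq _ L hξ n

theorem Φ_map [Module.Free A M] {N : Type u} [AddCommGroup N] [Module A N] [Module.Free A N]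
    (hT : ∀ a ∈ J, ∀ t : T, a • t = 0) (u : M →ₗ[A] N) (ζ : N →ₗ[A] A) (hζ : ∀ m, ζ m ∈ J) (n : ℕ) (t : T)
    (z : ⋀[A]^n M) :
    Φ R J hT (ζ.comp u) (fun m => hζ (u m)) n t z = Φ R J hT ζ hζ n t (exteriorPower.map n u z) := by
  obtain ⟨L⟩ := exists_lift R hT ζ hζ t
  rw [Φ_eq hT (L.comap u), Φ_eq hT L]
  rfl

/-- The form on `Fin n → A` with given values. -/
def form {n : ℕ} (x : Fin n → J) : (Fin n → A) →ₗ[A] A := Fintype.linearCombination A fun i => (x i : A)

theorem form_mem {n : ℕ} (x : Fin n → J) (m : Fin n → A) : form x m ∈ J := by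
  rw [form, Fintype.linearCombination_apply]
  exact J.sum_mem fun i _ => J.mul_mem_left _ (x i).2

variable (R) in
/-- The class attached to `x : Fin n → J` and `t`. -/
def φ (hT : ∀ a ∈ J, ∀ t : T, a • t = 0) {n : ℕ} (x : Fin n → J) (t : T) : H R J n :=
  Φ R J hT (form x) (form_mem x) n t (exteriorPower.ιMulti A n fun i => Pi.single i 1)

theorem φ_eq [Module.Free A M] (hT : ∀ a ∈ J, ∀ t : T, a • t = 0) (ξ : M →ₗ[A] A) (hξ : ∀ m, ξ m ∈ J)
    {n : ℕ} (v : Fin n → M) (x : Fin n → J) (hx : ∀ i, ξ (v i) = x i) (t : T) :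
    φ R hT x t = Φ R J hT ξ hξ n t (exteriorPower.ιMulti A n v) := by
  have he : form x = ξ.comp (Fintype.linearCombination A v) := by
    refine (Pi.basisFun A (Fin n)).ext fun i => ?_
    simp [form, Fintype.linearCombination_apply_single, hx]
  have h := Φ_map (R := R) hT (Fintype.linearCombination A v) ξ hξ n t
    (exteriorPower.ιMulti A n fun i => Pi.single i 1)
  rw [exteriorPower.map_apply_ιMulti,
    show (Fintype.linearCombination A v ∘ fun i => Pi.single i 1) = v from funext fun i => by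
      simp [Fintype.linearCombination_apply_single]] at h
  rw [φ, ← h]
  congr 4

/-- The universal form. -/
def univForm (J : Ideal A) : (↥J →₀ A) →ₗ[A] A := Finsupp.linearCombination A fun j : J => (j : A)

theorem univForm_mem (m : ↥J →₀ A) : univForm J m ∈ J := by
  rw [univForm, Finsupp.linearCombination_apply]
  exact J.sum_mem fun j _ => J.mul_mem_left _ j.2

variable (R J) in
/-- `φ` as an alternating map in `x`. -/
def φAlt (hT : ∀ a ∈ J, ∀ t : T, a • t = 0) (n : ℕ) (t : T) : J [⋀^Fin n]→ₗ[A] H R J n where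
  toFun x := φ R hT x t
  map_update_add' := by
    intro _ x i a b
    let v : Fin n → (↥J →₀ A) := fun k => Finsupp.single (x k) 1
    let w : J → Fin n → (↥J →₀ A) := fun c => Function.update v i (Finsupp.single c 1)
    have key : ∀ (y : ↥J →₀ A) (c : J), univForm J y = c →
        φ R hT (Function.update x i c) t =
          Φ R J hT (univForm J) univForm_mem n t (exteriorPower.ιMulti A n (Function.update v i y)) := by
      intro y c hy
      refine φ_eq hT _ _ _ _ (fun k => ?_) t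
      rcases eq_or_ne k i with rfl | hk
      · simpa using hy
      · simp [hk, v, univForm]
    rw [key (Finsupp.single a 1 + Finsupp.single b 1) (a + b) (by simp [univForm]),
      key (Finsupp.single a 1) a (by simp [univForm]), key (Finsupp.single b 1) b (by simp [univForm]),
      AlternatingMap.map_update_add, map_add]
  map_update_smul' := by
    intro _ x i c a
    let v : Fin n → (↥J →₀ A) := fun k => Finsupp.single (x k) 1
    have key : ∀ (y : ↥J →₀ A) (a' : J), univForm J y = a' →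
        φ R hT (Function.update x i a') t =
          Φ R J hT (univForm J) univForm_mem n t (exteriorPower.ιMulti A n (Function.update v i y)) := by
      intro y a' hy
      refine φ_eq hT _ _ _ _ (fun k => ?_) t
      rcases eq_or_ne k i with rfl | hk
      · simpa using hy
      · simp [hk, v, univForm]
    rw [key (c • Finsupp.single a 1) (c • a) (by simp [univForm]),
      key (Finsupp.single a 1) a (by simp [univForm]), AlternatingMap.map_update_smul, map_smul]
  map_eq_zero_of_eq' := by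
    intro x i j hij hne
    show φ R hT x t = 0
    rw [φ_eq hT (univForm J) univForm_mem (fun k => Finsupp.single (x k) 1) x (fun k => by simp [univForm]) t,
      AlternatingMap.map_eq_zero_of_eq _ _ (i := i) (j := j) (by simp only [hij]) hne, map_zero]

theorem φAlt_apply (hT : ∀ a ∈ J, ∀ t : T, a • t = 0) (n : ℕ) (t : T) (x : Fin n → J) :
    φAlt R J hT n t x = φ R hT x t := rfl

theorem φAlt_update_eq_zero (hT : ∀ a ∈ J, ∀ t : T, a • t = 0) {n : ℕ} (t : T) (x : Fin n → J) (i : Fin n)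
    (a : J) (ha : (a : A) ∈ J * J) : φAlt R J hT n t (Function.update x i a) = 0 := by
  obtain ⟨a, haJ⟩ := a
  change a ∈ J * J at ha
  have key : ∀ b, b ∈ J * J → ∀ hb : b ∈ J, φAlt R J hT n t (Function.update x i ⟨b, hb⟩) = 0 := by
    intro b hb
    induction hb using Submodule.mul_induction_on' with
    | mem_mul_mem p hp q hq =>
      intro hb
      rw [show (⟨p * q, hb⟩ : J) = p • (⟨q, hq⟩ : J) from Subtype.ext rfl, AlternatingMap.map_update_smul]
      exact smul_H_eq_zero hp _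
    | add p hp q hq ih1 ih2 =>
      intro hb
      rw [show (⟨p + q, hb⟩ : J) = (⟨p, Ideal.mul_le_left hp⟩ : J) + ⟨q, Ideal.mul_le_left hq⟩ from Subtype.ext rfl,
        AlternatingMap.map_update_add, ih1, ih2, add_zero]
  exact key a ha haJ

theorem φ_add (hT : ∀ a ∈ J, ∀ t : T, a • t = 0) {n : ℕ} (x : Fin n → J) (t t' : T) :
    φ R hT x (t + t') = φ R hT x t + φ R hT x t' := by
  rw [φ, map_add]; rfl

theorem φ_smul (hT : ∀ a ∈ J, ∀ t : T, a • t = 0) {n : ℕ} (x : Fin n → J) (a : A) (t : T) :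
    φ R hT x (a • t) = a • φ R hT x t := by
  rw [φ, map_smul]; rfl

end Groth.L29.TorExt
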