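import Groth.Agent.L29.TorExt.Alg
import Mathlib.LinearAlgebra.TensorProduct.Quotient

/-!
# The classes of a regular generating sequence form a basis of `H (R / J R)`
-/

set_option autoImplicit false

universe u

noncomputable section

namespace Groth.L29.TorExt

variable {A : Type u} [CommRing A]

open TensorProduct in
/-- Exact `P → Q → V` with flat `Q` and flat image in `V`: the image of `P` is flat and pure. -/
theorem step {P Q V : Type u} [AddCommGroup P] [Module A P] [AddCommGroup Q] [Module A Q] [AddCommGroup V]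
    [Module A V] (f : P →ₗ[A] Q) (g : Q →ₗ[A] V) (hfg : LinearMap.range f = LinearMap.ker g)
    [Module.Flat A Q] [Module.Flat A (LinearMap.range g)] :
    Module.Flat A (LinearMap.range f) ∧ ∀ (J : Ideal A) (z : Q), g z = 0 → z ∈ J • (⊤ : Submodule A Q) →
      z ∈ (J • (⊤ : Submodule A P)).map f := by
  have hu : CAlgX.UniversallyInjective A (LinearMap.range f).subtype := by
    refine Groth.L02.universallyInjective_of_flat_coker _ g.rangeRestrict (Submodule.injective_subtype _) ?_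
      (LinearMap.surjective_rangeRestrict _)
    rw [LinearMap.exact_iff, LinearMap.ker_rangeRestrict, Submodule.range_subtype, hfg]
  refine ⟨Groth.L02.flat_of_universallyInjective _ hu, fun J z hgz hz => ?_⟩
  have hzf : z ∈ LinearMap.range f := hfg ▸ hgz
  obtain ⟨p, rfl⟩ := hzf
  let v : LinearMap.range f := f.rangeRestrict p
  have h1 : (LinearMap.range f).subtype.rTensor (A ⧸ J) (v ⊗ₜ 1) = 0 := by
    rw [LinearMap.rTensor_tmul]
    apply (TensorProduct.tensorQuotEquivQuotSMul Q J).injective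
    rw [map_zero, ← map_one (Ideal.Quotient.mk J), TensorProduct.tensorQuotEquivQuotSMul_tmul_mk, one_smul]
    exact (Submodule.Quotient.mk_eq_zero _).2 hz
  have h2 : v ⊗ₜ[A] (1 : A ⧸ J) = 0 := hu _ (h1.trans (map_zero _).symm)
  have h3 : v ∈ J • (⊤ : Submodule A (LinearMap.range f)) := by
    rw [← map_one (Ideal.Quotient.mk J)] at h2
    have := congrArg (TensorProduct.tensorQuotEquivQuotSMul (LinearMap.range f) J) h2
    rw [map_zero, TensorProduct.tensorQuotEquivQuotSMul_tmul_mk, one_smul] at this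
    exact (Submodule.Quotient.mk_eq_zero _).1 this
  obtain ⟨q, hq, hqv⟩ : v ∈ (J • (⊤ : Submodule A P)).map f.rangeRestrict := by
    rwa [Submodule.map_smul'', Submodule.map_top, LinearMap.range_eq_top.2 f.surjective_rangeRestrict]
  exact ⟨q, hq, congrArg Subtype.val hqv⟩

theorem flat_prod {P Q : Type u} [AddCommGroup P] [Module A P] [AddCommGroup Q] [Module A Q] [Module.Flat A P]
    [Module.Flat A Q] : Module.Flat A (P × Q) := by
  rw [Module.Flat.iff_lTensor_preserves_injective_linearMap]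
  intro N N' _ _ _ _ φ hφ
  have h : ∀ z, TensorProduct.prodLeft A A P Q N' (φ.lTensor (P × Q) z) =
      Prod.map (φ.lTensor P) (φ.lTensor Q) (TensorProduct.prodLeft A A P Q N z) := by
    intro z
    induction z using TensorProduct.induction_on with
    | zero => simp only [map_zero]; rfl
    | tmul x y => obtain ⟨p, q⟩ := x; simp [Prod.map]
    | add x y hx hy =>
      simp only [map_add, hx, hy]
      simp [Prod.map]
  intro z w hzw
  apply (TensorProduct.prodLeft A A P Q N).injective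
  apply ((Module.Flat.lTensor_preserves_injective_linearMap φ hφ).prodMap
    (Module.Flat.lTensor_preserves_injective_linearMap φ hφ))
  rw [← h, ← h, hzw]

variable {T : Type u} [AddCommGroup T] [Module A T] {R : Res A T} {J : Ideal A}
variable {M : Type u} [AddCommGroup M] [Module A M]

theorem eq_smul_one₀ (z : ⋀[A]^0 M) : ∃ a : A, z = a • one₀ A M := by
  have hz : z ∈ Submodule.span A (Set.range (exteriorPower.ιMulti A 0 (M := M))) := by
    rw [exteriorPower.ιMulti_span]; trivial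
  have h : Set.range (exteriorPower.ιMulti A 0 (M := M)) = {one₀ A M} :=
    Set.ext fun w => ⟨fun ⟨e, he⟩ => he ▸ congrArg _ (Subsingleton.elim e ![]), fun hw => ⟨![], hw.symm⟩⟩
  rw [h, Submodule.mem_span_singleton] at hz
  obtain ⟨a, ha⟩ := hz
  exact ⟨a, ha.symm⟩

theorem smul_one₀_mem_range (ξ : M →ₗ[A] A) (hspan : LinearMap.range ξ = J) {a : A} (ha : a ∈ J) :
    a • one₀ A M ∈ LinearMap.range (kD ξ 0) := by
  rw [← hspan] at ha
  obtain ⟨m, rfl⟩ := ha
  exact ⟨exteriorPower.ιMulti A 1 ![m], kD_zero ξ _⟩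

theorem range_kD_zero (ξ : M →ₗ[A] A) (hspan : LinearMap.range ξ = J) :
    LinearMap.range (kD ξ 0) = J • (⊤ : Submodule A (⋀[A]^0 M)) := by
  refine le_antisymm ?_ ?_
  · rintro _ ⟨z, rfl⟩
    exact kD_mem ξ (fun m => hspan ▸ LinearMap.mem_range_self ξ m) 0 z
  · rw [Submodule.smul_le]
    intro a ha z _
    obtain ⟨b, rfl⟩ := eq_smul_one₀ z
    rw [smul_smul]
    exact smul_one₀_mem_range ξ hspan (J.mul_mem_right _ ha)

theorem exact_kD [Module.Finite A M] {c : ℕ} (b : Module.Basis (Fin c) A M) (ξ : M →ₗ[A] A)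
    (hreg : RingTheory.Sequence.IsWeaklyRegular A (List.ofFn fun k => ξ (b k))) (n : ℕ)
    {z : ⋀[A]^(n + 1) M} (hz : kD ξ n z = 0) : ∃ y, kD ξ (n + 1) y = z :=
  Groth.L04.KSh.exact_extPow b ξ hreg n (kD ξ n) (kD ξ (n + 1)) (kD_ι ξ n) (kD_ι ξ (n + 1)) hz

section Bij

variable {κ : Type} [Fintype κ] (m : κ → T)
variable (ξ : M →ₗ[A] A)

/-- The chain map from copies of the Koszul complex. -/
def chain (L : ∀ k, Lift R ξ (m k)) (n : ℕ) : (κ → ⋀[A]^n M) →ₗ[A] R.obj n :=
  ∑ k, ((L k).f n).comp (LinearMap.proj k)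

theorem chain_apply (L : ∀ k, Lift R ξ (m k)) (n : ℕ) (y : κ → ⋀[A]^n M) :
    chain m ξ L n y = ∑ k, (L k).f n (y k) := by
  simp [chain]

/-- Componentwise Koszul differential. -/
def kDs (κ : Type) (ξ : M →ₗ[A] A) (n : ℕ) : (κ → ⋀[A]^(n + 1) M) →ₗ[A] (κ → ⋀[A]^n M) :=
  LinearMap.pi fun k => (kD ξ n).comp (LinearMap.proj k)

theorem chain_comm (L : ∀ k, Lift R ξ (m k)) (n : ℕ) (y : κ → ⋀[A]^(n + 1) M) :
    R.d n (chain m ξ L (n + 1) y) = chain m ξ L n (kDs κ ξ n y) := by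
  simp [chain_apply, kDs, map_sum, Lift.comm]

/-- The last differential of the cone. -/
def cone₀ (L : ∀ k, Lift R ξ (m k)) : ((κ → ⋀[A]^0 M) × R.obj 1) →ₗ[A] R.obj 0 :=
  (chain m ξ L 0).coprod (R.d 0)

/-- The differentials of the cone. -/
def cone (L : ∀ k, Lift R ξ (m k)) (n : ℕ) :
    ((κ → ⋀[A]^(n + 1) M) × R.obj (n + 2)) →ₗ[A] ((κ → ⋀[A]^n M) × R.obj (n + 1)) :=
  LinearMap.prod (-(kDs κ ξ n).comp (LinearMap.fst _ _ _)) ((chain m ξ L (n + 1)).coprod (R.d (n + 1)))

theorem cone_apply (L : ∀ k, Lift R ξ (m k)) (n : ℕ) (y : κ → ⋀[A]^(n + 1) M) (r : R.obj (n + 2)) :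
    cone m ξ L n (y, r) = (-kDs κ ξ n y, chain m ξ L (n + 1) y + R.d (n + 1) r) := rfl

theorem cone₀_apply (L : ∀ k, Lift R ξ (m k)) (y : κ → ⋀[A]^0 M) (r : R.obj 1) :
    cone₀ m ξ L (y, r) = chain m ξ L 0 y + R.d 0 r := rfl

theorem ε_chain (L : ∀ k, Lift R ξ (m k)) (a : κ → A) :
    R.ε (chain m ξ L 0 fun k => a k • one₀ A M) = ∑ k, a k • m k := by
  simp [chain_apply, map_sum, (L _).aug]

theorem range_cone₀ (hgen : ∀ t, ∃ a : κ → A, ∑ k, a k • m k = t) (L : ∀ k, Lift R ξ (m k)) :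
    LinearMap.range (cone₀ m ξ L) = ⊤ := by
  refine eq_top_iff.2 fun r _ => ?_
  obtain ⟨a, ha⟩ := hgen (R.ε r)
  obtain ⟨s, hs⟩ := R.exact_zero (r - chain m ξ L 0 fun k => a k • one₀ A M) (by
    rw [map_sub, ε_chain, ha, sub_self])
  exact ⟨(fun k => a k • one₀ A M, s), by rw [cone₀_apply, hs]; abel⟩

variable [Module.Finite A M]
  (hreg : ∀ (n : ℕ) (z : ⋀[A]^(n + 1) M), kD ξ n z = 0 → ∃ y, kD ξ (n + 1) y = z)
  (hspan : LinearMap.range ξ = J)

include hspan in
theorem range_cone_zero (hindep : ∀ a : κ → A, ∑ k, a k • m k = 0 → ∀ k, a k ∈ J)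
    (L : ∀ k, Lift R ξ (m k)) : LinearMap.range (cone m ξ L 0) = LinearMap.ker (cone₀ m ξ L) := by
  refine le_antisymm ?_ fun p hp => ?_
  · rintro _ ⟨⟨y, r⟩, rfl⟩
    rw [LinearMap.mem_ker, cone_apply, cone₀_apply, map_add, chain_comm, R.d_d, map_neg]
    abel
  obtain ⟨y, r⟩ := p
  rw [LinearMap.mem_ker, cone₀_apply] at hp
  choose a ha using fun k => eq_smul_one₀ (y k)
  have hy : y = fun k => a k • one₀ A M := funext ha
  have he := congrArg R.ε hp
  rw [map_add, R.ε_d, add_zero, map_zero, hy, ε_chain] at he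
  choose w hw using fun k => smul_one₀_mem_range ξ hspan (hindep a he k)
  have hw' : kDs κ ξ 0 w = y := funext fun k => by
    show kD ξ 0 (w k) = y k
    rw [hw, ha]
  obtain ⟨s, hs⟩ := R.exact_succ 0 (r + chain m ξ L 1 w) (by
    rw [map_add, chain_comm m ξ L 0, hw', add_comm]; exact hp)
  refine ⟨(-w, s), ?_⟩
  rw [cone_apply, map_neg, map_neg, neg_neg, hw', hs]
  exact Prod.ext rfl (by abel)

include hreg in
theorem range_cone_succ (L : ∀ k, Lift R ξ (m k)) (n : ℕ) :
    LinearMap.range (cone m ξ L (n + 1)) = LinearMap.ker (cone m ξ L n) := by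
  refine le_antisymm ?_ fun p hp => ?_
  · rintro _ ⟨⟨y, r⟩, rfl⟩
    rw [LinearMap.mem_ker, cone_apply, cone_apply, map_add, chain_comm, R.d_d, map_neg, map_neg]
    refine Prod.ext ?_ (by show _ = (0 : R.obj (n + 1)); abel)
    funext k
    show - -kD ξ n (kD ξ (n + 1) (y k)) = 0
    rw [kD_kD, neg_zero, neg_zero]
  obtain ⟨y, r⟩ := p
  rw [LinearMap.mem_ker, cone_apply, Prod.mk_eq_zero, neg_eq_zero] at hp
  choose w hw using fun k => hreg n (y k) (congrFun hp.1 k)
  have hw' : kDs κ ξ (n + 1) w = y := funext hw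
  obtain ⟨s, hs⟩ := R.exact_succ (n + 1) (r + chain m ξ L (n + 2) w) (by
    rw [map_add, chain_comm m ξ L (n + 1), hw']; exact (add_comm _ _).trans hp.2)
  refine ⟨(-w, s), ?_⟩
  rw [cone_apply, map_neg, map_neg, neg_neg, hw', hs]
  exact Prod.ext rfl (by abel)

variable [∀ n, Module.Flat A (R.obj n)] [Module.Free A M]

omit [Module.Finite A M] in
instance flat_term (n n' : ℕ) : Module.Flat A ((κ → ⋀[A]^n M) × R.obj n') := by
  haveI : Module.Flat A (κ → ⋀[A]^n M) :=
    Module.Flat.of_linearEquiv (DirectSum.linearEquivFunOnFintype A κ fun _ => ⋀[A]^n M).symm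
  exact flat_prod

include hreg hspan in
theorem flat_range_cone (hgen : ∀ t, ∃ a : κ → A, ∑ k, a k • m k = t)
    (hindep : ∀ a : κ → A, ∑ k, a k • m k = 0 → ∀ k, a k ∈ J) (L : ∀ k, Lift R ξ (m k)) :
    Module.Flat A (LinearMap.range (cone₀ m ξ L)) ∧ ∀ n, Module.Flat A (LinearMap.range (cone m ξ L n)) := by
  have h0 : Module.Flat A (LinearMap.range (cone₀ m ξ L)) :=
    Module.Flat.of_linearEquiv ((LinearEquiv.ofEq _ _ (range_cone₀ m ξ hgen L)).trans Submodule.topEquiv)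
  refine ⟨h0, fun n => ?_⟩
  induction n with
  | zero =>
    haveI := h0
    exact (step _ _ (range_cone_zero m ξ hspan hindep L)).1
  | succ n ih => exact (step _ _ (range_cone_succ m ξ hreg L n)).1

theorem pi_mem_smul {n : ℕ} {y : κ → ⋀[A]^n M} (h : ∀ k, y k ∈ J • (⊤ : Submodule A (⋀[A]^n M))) :
    y ∈ J • (⊤ : Submodule A (κ → ⋀[A]^n M)) := by
  classical
  rw [← Finset.univ_sum_single y]
  refine Submodule.sum_mem _ fun k _ => ?_
  exact Submodule.mem_comap.1 ((Submodule.map_le_iff_le_comap.1 ((Submodule.map_smul'' J ⊤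
    (LinearMap.single A (fun _ : κ => ⋀[A]^n M) k)).le.trans (Submodule.smul_mono le_rfl le_top))) (h k))

omit [∀ n, Module.Flat A (R.obj n)] in
theorem proj_mem_smul {n : ℕ} {y : κ → ⋀[A]^n M} (h : y ∈ J • (⊤ : Submodule A (κ → ⋀[A]^n M))) (k : κ) :
    y k ∈ J • (⊤ : Submodule A (⋀[A]^n M)) :=
  Submodule.mem_comap.1 ((Submodule.map_le_iff_le_comap.1 ((Submodule.map_smul'' J ⊤
    (LinearMap.proj (R := A) (φ := fun _ : κ => ⋀[A]^n M) k)).le.trans (Submodule.smul_mono le_rfl le_top))) h)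

theorem prod_mem_smul {P Q : Type u} [AddCommGroup P] [Module A P] [AddCommGroup Q] [Module A Q] {p : P} {q : Q}
    (hp : p ∈ J • (⊤ : Submodule A P)) (hq : q ∈ J • (⊤ : Submodule A Q)) :
    (p, q) ∈ J • (⊤ : Submodule A (P × Q)) := by
  have key : ∀ {N : Type u} [AddCommGroup N] [Module A N] (f : N →ₗ[A] P × Q) {x : N},
      x ∈ J • (⊤ : Submodule A N) → f x ∈ J • (⊤ : Submodule A (P × Q)) := fun f x hx =>
    Submodule.mem_comap.1 ((Submodule.map_le_iff_le_comap.1
      ((Submodule.map_smul'' J ⊤ f).le.trans (Submodule.smul_mono le_rfl le_top))) hx)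
  simpa using add_mem (key (LinearMap.inl A P Q) hp) (key (LinearMap.inr A P Q) hq)

theorem map_mem_smul {P Q : Type u} [AddCommGroup P] [Module A P] [AddCommGroup Q] [Module A Q] (f : P →ₗ[A] Q)
    {p : P} (hp : p ∈ J • (⊤ : Submodule A P)) : f p ∈ J • (⊤ : Submodule A Q) :=
  Submodule.mem_comap.1 ((Submodule.map_le_iff_le_comap.1
    ((Submodule.map_smul'' J ⊤ f).le.trans (Submodule.smul_mono le_rfl le_top))) hp)

include hspan in
theorem exists_sub_cone_zero (hgen : ∀ t, ∃ a : κ → A, ∑ k, a k • m k = t)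
    (hindep : ∀ a : κ → A, ∑ k, a k • m k = 0 → ∀ k, a k ∈ J) (L : ∀ k, Lift R ξ (m k))
    (p : (κ → ⋀[A]^0 M) × R.obj 1) (hp : cone₀ m ξ L p ∈ J • (⊤ : Submodule A (R.obj 0))) :
    ∃ q, p - cone m ξ L 0 q ∈ J • (⊤ : Submodule A ((κ → ⋀[A]^0 M) × R.obj 1)) := by
  obtain ⟨w, hw, hwp⟩ : cone₀ m ξ L p ∈ (J • (⊤ : Submodule A ((κ → ⋀[A]^0 M) × R.obj 1))).map (cone₀ m ξ L) := by
    rwa [Submodule.map_smul'', Submodule.map_top, range_cone₀ m ξ hgen L]
  obtain ⟨q, hq⟩ : p - w ∈ LinearMap.range (cone m ξ L 0) := by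
    rw [range_cone_zero m ξ hspan hindep L, LinearMap.mem_ker, map_sub, hwp, sub_self]
  exact ⟨q, by rwa [hq, sub_sub_cancel]⟩

include hreg hspan in
theorem exists_sub_cone_succ (hgen : ∀ t, ∃ a : κ → A, ∑ k, a k • m k = t)
    (hindep : ∀ a : κ → A, ∑ k, a k • m k = 0 → ∀ k, a k ∈ J) (L : ∀ k, Lift R ξ (m k)) (n : ℕ)
    (p : (κ → ⋀[A]^(n + 1) M) × R.obj (n + 2))
    (hp : cone m ξ L n p ∈ J • (⊤ : Submodule A ((κ → ⋀[A]^n M) × R.obj (n + 1)))) :
    ∃ q, p - cone m ξ L (n + 1) q ∈ J • (⊤ : Submodule A ((κ → ⋀[A]^(n + 1) M) × R.obj (n + 2))) := by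
  obtain ⟨hf0, hfs⟩ := flat_range_cone m ξ hreg hspan hgen hindep L
  obtain ⟨w, hw, hwp⟩ : cone m ξ L n p ∈
      (J • (⊤ : Submodule A ((κ → ⋀[A]^(n + 1) M) × R.obj (n + 2)))).map (cone m ξ L n) := by
    cases n with
    | zero =>
      haveI := hf0
      exact (step _ _ (range_cone_zero m ξ hspan hindep L)).2 J _
        (LinearMap.mem_ker.1 (range_cone_zero m ξ hspan hindep L ▸ LinearMap.mem_range_self _ p)) hp
    | succ n =>
      haveI := hfs n
      exact (step _ _ (range_cone_succ m ξ hreg L n)).2 J _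
        (LinearMap.mem_ker.1 (range_cone_succ m ξ hreg L n ▸ LinearMap.mem_range_self _ p)) hp
  obtain ⟨q, hq⟩ : p - w ∈ LinearMap.range (cone m ξ L (n + 1)) := by
    rw [range_cone_succ m ξ hreg L n, LinearMap.mem_ker, map_sub, hwp, sub_self]
  exact ⟨q, by rwa [hq, sub_sub_cancel]⟩

omit [∀ n, Module.Flat A (R.obj n)] in
theorem kDs_mem (hξ : ∀ x, ξ x ∈ J) (n : ℕ) (y : κ → ⋀[A]^(n + 1) M) :
    kDs κ ξ n y ∈ J • (⊤ : Submodule A (κ → ⋀[A]^n M)) :=
  pi_mem_smul fun k => kD_mem ξ hξ n (y k)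

variable (hT : ∀ a ∈ J, ∀ t : T, a • t = 0) (hξ : ∀ x, ξ x ∈ J)

include hreg hspan in
/-- The classes of `ξ` and a frame `m` of `T` are a basis of `H` modulo `J`. -/
theorem bijective_Φ (hgen : ∀ t, ∃ a : κ → A, ∑ k, a k • m k = t)
    (hindep : ∀ a : κ → A, ∑ k, a k • m k = 0 → ∀ k, a k ∈ J) (n : ℕ) :
    (∀ h : H R J n, ∃ y : κ → ⋀[A]^n M, ∑ k, Φ R J hT ξ hξ n (m k) (y k) = h) ∧
      ∀ y : κ → ⋀[A]^n M, ∑ k, Φ R J hT ξ hξ n (m k) (y k) = 0 →
        ∀ k, y k ∈ J • (⊤ : Submodule A (⋀[A]^n M)) := by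
  classical
  choose L hL using fun k => (⟨(exists_lift R hT ξ hξ (m k)).some, rfl⟩ :
    ∃ L : Lift R ξ (m k), L = L)
  obtain ⟨hf0, hfs⟩ := flat_range_cone m ξ hreg hspan hgen hindep L
  have mem : ∀ y : κ → ⋀[A]^n M, chain m ξ L n y ∈ Z R J n := fun y => by
    rw [chain_apply]
    exact Submodule.sum_mem _ fun k _ => (L k).mem_Z hξ n _
  have hsum : ∀ y : κ → ⋀[A]^n M, ∑ k, Φ R J hT ξ hξ n (m k) (y k) = cls n ⟨chain m ξ L n y, mem y⟩ := by
    intro y
    simp only [Φ_eq hT (L _), Lift.toH_apply, ← map_sum]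
    exact congrArg _ (Subtype.ext (by simp [chain_apply]))
  refine ⟨fun h => ?_, fun y hy k => ?_⟩
  · induction h using Submodule.Quotient.induction_on with
    | H z =>
      obtain ⟨r, hr⟩ := z
      suffices ∃ y, r - chain m ξ L n y ∈ B R J n by
        obtain ⟨y, hy⟩ := this
        refine ⟨y, ?_⟩
        rw [hsum]
        exact ((cls_eq _ _).2 (by
          show chain m ξ L n y - r ∈ B R J n
          rw [← neg_sub]; exact neg_mem hy))
      cases n with
      | zero =>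
        have := range_cone₀ m ξ hgen L
        rw [eq_top_iff] at this
        obtain ⟨⟨y, s⟩, hys⟩ := this (x := r) trivial
        rw [cone₀_apply] at hys
        exact ⟨y, Submodule.mem_sup_left ⟨s, by rw [← hys]; abel⟩⟩
      | succ n =>
        change R.d n r ∈ J • (⊤ : Submodule A (R.obj n)) at hr
        obtain ⟨⟨y, s⟩, hq⟩ : ∃ q, ((0 : κ → ⋀[A]^n M), r) - cone m ξ L n q ∈
            J • (⊤ : Submodule A ((κ → ⋀[A]^n M) × R.obj (n + 1))) := by
          cases n with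
          | zero =>
            exact exists_sub_cone_zero m ξ hspan hgen hindep L _ (by
              rw [cone₀_apply, map_zero, zero_add]; exact hr)
          | succ n =>
            exact exists_sub_cone_succ m ξ hreg hspan hgen hindep L n _ (by
              rw [cone_apply, map_zero, map_zero, neg_zero, zero_add]
              exact prod_mem_smul (zero_mem _) hr)
        rw [cone_apply, Prod.mk_sub_mk] at hq
        refine ⟨y, ?_⟩
        rw [show r - chain m ξ L (n + 1) y =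
          R.d (n + 1) s + (r - (chain m ξ L (n + 1) y + R.d (n + 1) s)) by abel]
        exact add_mem (Submodule.mem_sup_left ⟨_, rfl⟩)
          (Submodule.mem_sup_right (map_mem_smul (LinearMap.snd A _ _) hq))
  · rw [hsum, cls_eq_zero] at hy
    obtain ⟨_, ⟨s, rfl⟩, j, hj, hsj⟩ := Submodule.mem_sup.1 hy
    change R.d n s + j = chain m ξ L n y at hsj
    have hj' : chain m ξ L n y + R.d n (-s) = j := by rw [← hsj, map_neg]; abel
    obtain ⟨⟨z, w⟩, hq⟩ : ∃ q, (y, -s) - cone m ξ L n q ∈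
        J • (⊤ : Submodule A ((κ → ⋀[A]^n M) × R.obj (n + 1))) := by
      cases n with
      | zero => exact exists_sub_cone_zero m ξ hspan hgen hindep L _ (by rw [cone₀_apply, hj']; exact hj)
      | succ n =>
        exact exists_sub_cone_succ m ξ hreg hspan hgen hindep L n _ (by
          rw [cone_apply, hj']
          exact prod_mem_smul (neg_mem (kDs_mem ξ hξ n y)) hj)
    rw [cone_apply, Prod.mk_sub_mk] at hq
    have h1 : y - -kDs κ ξ n z ∈ J • (⊤ : Submodule A (κ → ⋀[A]^n M)) :=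
      map_mem_smul (LinearMap.fst A _ _) hq
    have h2 := sub_mem h1 (kDs_mem ξ hξ n z)
    rw [sub_neg_eq_add, add_sub_cancel_right] at h2
    exact proj_mem_smul h2 k

end Bij

end Groth.L29.TorExt
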