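import Groth.Agent.L29.TorExt.LiftNhd

/-!
# The classes as sections
-/

set_option autoImplicit false
set_option backward.isDefEq.respectTransparency false
set_option backward.isDefEq.respectTransparency.types false
set_option linter.style.haveILetI false

universe u

open CategoryTheory CategoryTheory.Limits AlgebraicGeometry TopologicalSpace Opposite OmegaSh
open Groth.L18.Frame (rs rs_rs rs_self pull)

noncomputable section

namespace Groth.L29.TorExt

variable {X Y : Scheme.{u}} (i : Y ⟶ X) [IsClosedImmersion i] {M : Y.Modules}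
  (S : SheafRes ((Scheme.Modules.pushforward i).obj M))

theorem exists_preimage_le {W : Y.Opens} {y : Y} (hy : y ∈ W) :
    ∃ U : X.Opens, i y ∈ U ∧ i ⁻¹ᵁ U ≤ W := by
  obtain ⟨O, hO, hOW⟩ := i.isClosedEmbedding.isInducing.isOpen_iff.1 W.2
  have hOW' : i ⁻¹' O = (W : Set Y) := hOW
  exact ⟨⟨O, hO⟩, by show y ∈ i ⁻¹' O; rw [hOW']; exact hy, fun z hz => by
    show z ∈ (W : Set Y); rw [← hOW']; exact hz⟩

theorem θ_eq_of_lift {n : ℕ} (y : Y) (q : Fin n → (Groth.L00.Stk.F X (i y)).obj (ClSub.idealMod i.ker))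
    (t : (Groth.L00.Stk.F X (i y)).obj ((Scheme.Modules.pushforward i).obj M))
    (g : Fin n → X.presheaf.stalk (i y)) (hg : ∀ k, g k = (jv i y (q k) : X.presheaf.stalk (i y)))
    (L : Lift (S.stalk (i y)) (Fintype.linearCombination (X.presheaf.stalk (i y)) g) t)
    (w : (Groth.L00.Stk.F Y y).obj ((pullCx i S).cycles (deg n)))
    (hw : stl ((pullCx i S).iCycles (deg n)) y w =
      η i S n y (L.f n (exteriorPower.ιMulti _ n fun j => Pi.single j 1))) :
    θ i S n y q t = stl ((pullCx i S).homologyπ (deg n)) y w := by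
  obtain rfl : g = fun k => (jv i y (q k) : X.presheaf.stalk (i y)) := funext hg
  unfold θ φ
  rw [Φ_eq (J := stIdeal i y) (smul_stalk_push_eq_zero i M y)
    (ξ := form fun k => jv i y (q k)) L (form_mem _) n, Lift.toH_apply, ψ_cls]
  refine congrArg _ (stl_injective ((pullCx i S).iCycles (deg n)) y ?_)
  exact (wlin_spec i S n y _).trans hw.symm

theorem exists_local {n : ℕ} {W : Y.Opens} (v : Fin n → Γ(Omega.conormal i, W)) (m : Γ(M, W)) {y₀ : Y}
    (hy₀ : y₀ ∈ W) :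
    ∃ (V : Y.Opens) (_ : y₀ ∈ V) (hVW : V ≤ W) (s : Γ(Hs i S n, V)), ∀ (y : Y) (hy : y ∈ V),
      gs _ hy s = Θ i S n y (fun k => gs _ (hVW hy) (v k)) (gs _ (hVW hy) m) := by
  -- representatives
  choose q hq using fun k => κ_surjective i y₀ (gs _ hy₀ (v k))
  let T := (Scheme.Modules.pushforward i).obj M
  obtain ⟨t, ht⟩ := (Groth.L17.ClosedPush.c₀_bijective i M y₀).2 (gs _ hy₀ m)
  obtain ⟨U₀, hU₀, el, hel⟩ := exists_spread (fun _ : Fin n => ClSub.idealMod i.ker) q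
  obtain ⟨U₁, hU₁, ts₁, hts₁⟩ := exists_gs T t
  let U := U₀ ⊓ U₁
  have hU : i y₀ ∈ U := ⟨hU₀, hU₁⟩
  let e : Fin n → Γ(ClSub.idealMod i.ker, U) := fun k => rs (ClSub.idealMod i.ker) (inf_le_left : U ≤ U₀) (el k)
  let ts : Γ(T, U) := rs T (inf_le_right : U ≤ U₁) ts₁
  let f : Fin n → Γ(X, U) := fun k => idealSect i.ker U (e k)
  have he : ∀ k, gs _ hU (e k) = q k := fun k => (gs_rs _ _ hU _).trans (hel k)
  have hts : gs T hU ts = t := (gs_rs _ _ hU _).trans hts₁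
  -- agreement with the given sections
  have hA : ∀ k, ∃ Wk : Y.Opens, y₀ ∈ Wk ∧ ∀ z, z ∈ Wk → ∀ (hz : z ∈ W) (hzU : i z ∈ U),
      κ i z (gs _ hzU (e k)) = gs _ hz (v k) := fun k => by
    obtain ⟨Wk, h1, -, h3⟩ := exists_eq_nhd (Omega.conormal i) (show y₀ ∈ i ⁻¹ᵁ U from hU) hy₀
      (s := pull i (ClSub.idealMod i.ker) U (e k)) (t := v k)
      ((pm_gs i (ClSub.idealMod i.ker) (y := y₀) hU (e k)).symm.trans ((congrArg (κ i y₀) (he k)).trans (hq k)))
    exact ⟨Wk, h1, fun z hz hzW hzU => (pm_gs i _ hzU (e k)).trans (h3 z hz hzU hzW)⟩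
  choose Wk hWk hWk' using hA
  obtain ⟨Wm, hWm, -, hWm'⟩ := exists_eq_nhd M (show y₀ ∈ i ⁻¹ᵁ U from hU) hy₀
    (s := (ts : Γ(M, i ⁻¹ᵁ U))) (t := m)
    ((Groth.L17.ClosedPush.c₀_germ i M y₀ hU ts).symm.trans ((congrArg _ hts).trans ht))
  -- the lift
  have hjv : ∀ (z : Y) (hzU : i z ∈ U) (k : Fin n),
      (X.presheaf.germ U (i z) hzU (f k) : X.presheaf.stalk (i z)) = (jv i z (gs _ hzU (e k)) : X.presheaf.stalk (i z)) :=
    fun z hzU k => (jv₀_gs i.ker hzU (e k)).symm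
  have hξ : ∀ x, (Fintype.linearCombination (X.presheaf.stalk (i y₀))
      fun j => (X.presheaf.germ U (i y₀) hU (f j) : X.presheaf.stalk (i y₀))) x ∈ stIdeal i y₀ := fun x => by
    rw [Fintype.linearCombination_apply]
    exact Ideal.sum_mem _ fun j _ => Ideal.mul_mem_left _ _ (by rw [hjv y₀ hU j]; exact (jv i y₀ _).2)
  obtain ⟨L₀⟩ := exists_lift (J := stIdeal i y₀) (S.stalk (i y₀)) (smul_stalk_push_eq_zero i M y₀) _ hξ (gs T hU ts)
  obtain ⟨Vx, hVx, hVxU, rt, hrt, hL⟩ := exists_lift_nhd S f ts hU L₀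
  -- the cycle
  obtain ⟨Vc, hVc, sw, hsw⟩ := exists_gs ((pullCx i S).cycles (deg n))
    (wlin i S n y₀ ⟨_, L₀.mem_Z hξ n (exteriorPower.ιMulti _ n fun j => Pi.single j 1)⟩)
  obtain ⟨Wc, hWc, hWc₁, hWc'⟩ := exists_eq_nhd ((pullCx i S).X (deg n)) hVc (show y₀ ∈ i ⁻¹ᵁ Vx from hVx)
    (s := ((pullCx i S).iCycles (deg n)).app Vc sw) (t := pull i (S.R.X (deg n)) Vx rt)
    (((stl_gs _ hVc sw).symm.trans ((congrArg _ hsw).trans (wlin_spec i S n y₀ _))).trans
      ((congrArg (η i S n y₀) hrt.symm).trans (pm_gs i (S.R.X (deg n)) hVx rt)))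
  classical
  let V : Y.Opens := W ⊓ (i ⁻¹ᵁ Vx) ⊓ Wm ⊓ Wc ⊓ Finset.univ.inf Wk
  have hVW : V ≤ W := inf_le_left.trans (inf_le_left.trans (inf_le_left.trans inf_le_left))
  have hVc' : V ≤ Vc := (inf_le_left.trans inf_le_right).trans (hWc₁.trans inf_le_left)
  refine ⟨V, ⟨⟨⟨⟨hy₀, hVx⟩, hWm⟩, hWc⟩, ?_⟩, hVW,
    rs (Hs i S n) hVc' (((pullCx i S).homologyπ (deg n)).app Vc sw), fun y hy => ?_⟩
  · show y₀ ∈ ((Finset.univ.inf Wk : Y.Opens) : Set Y)
    rw [TopologicalSpace.Opens.coe_finset_inf]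
    simpa using hWk
  obtain ⟨⟨⟨⟨hyW, hyx⟩, hym⟩, hyc⟩, hyk⟩ := hy
  have hyU : i y ∈ U := hVxU hyx
  obtain ⟨L, hLt⟩ := hL (i y) hyx
  rw [gs_rs, ← stl_gs]
  refine Eq.trans (θ_eq_of_lift i S y (fun k => gs _ hyU (e k)) (gs T hyU ts) _ (fun k => hjv y hyU k) L _ ?_).symm
    (Θ_eq i S n y _ _ (fun k => hWk' k y ((Finset.inf_le (Finset.mem_univ k) : Finset.univ.inf Wk ≤ Wk k) hyk) hyW hyU)
      ((Groth.L17.ClosedPush.c₀_germ i M y hyU ts).trans (hWm' y hym hyU hyW))).symm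
  rw [stl_gs, hLt]
  exact (hWc' y hyc _ _).trans (pm_gs i (S.R.X (deg n)) hyx rt).symm

theorem exists_sec {n : ℕ} {W : Y.Opens} (v : Fin n → Γ(Omega.conormal i, W)) (m : Γ(M, W)) :
    ∃ s : Γ(Hs i S n, W), ∀ (y : Y) (hy : y ∈ W),
      gs _ hy s = Θ i S n y (fun k => gs _ hy (v k)) (gs _ hy m) := by
  choose V hyV hVW s hs using fun y : (W : Set Y) => exists_local i S v m y.2
  obtain ⟨σ, hσ⟩ := Groth.L16.HomSh.exists_glue (Hs i S n) V hVW
    (fun z hz => Opens.mem_iSup.2 ⟨⟨z, hz⟩, hyV ⟨z, hz⟩⟩) s fun a b => gs_ext _ fun z hz => by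
      rw [gs_rs, gs_rs, hs, hs]
  refine ⟨σ, fun y hy => ?_⟩
  rw [← hs ⟨y, hy⟩ y (hyV ⟨y, hy⟩), ← hσ ⟨y, hy⟩, gs_rs]

/-- The class of a tuple of sections of the conormal sheaf and a section of `M`. -/
def sec {n : ℕ} {W : Y.Opens} (v : Fin n → Γ(Omega.conormal i, W)) (m : Γ(M, W)) : Γ(Hs i S n, W) :=
  (exists_sec i S v m).choose

theorem gs_sec {n : ℕ} {W : Y.Opens} (v : Fin n → Γ(Omega.conormal i, W)) (m : Γ(M, W)) (y : Y) (hy : y ∈ W) :
    gs _ hy (sec i S v m) = Θ i S n y (fun k => gs _ hy (v k)) (gs _ hy m) :=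
  (exists_sec i S v m).choose_spec y hy

attribute [irreducible] sec

theorem rs_sec {n : ℕ} {W W' : Y.Opens} (h : W' ≤ W) (v : Fin n → Γ(Omega.conormal i, W)) (m : Γ(M, W)) :
    rs (Hs i S n) h (sec i S v m) = sec i S (fun k => rs (Omega.conormal i) h (v k)) (rs M h m) :=
  gs_ext _ fun y hy => by
    rw [gs_rs, gs_sec, gs_sec]
    simp only [gs_rs]

theorem sec_add_right {n : ℕ} {W : Y.Opens} (v : Fin n → Γ(Omega.conormal i, W)) (m m' : Γ(M, W)) :
    sec i S v (m + m') = sec i S v m + sec i S v m' :=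
  gs_ext _ fun y hy => by
    simp only [gs, map_add]
    exact (gs_sec i S v (m + m') y hy).trans (((congrArg (Θ i S n y _) (map_add _ m m')).trans
      (Θ_add_right i S n y _ _ _)).trans (congrArg₂ _ (gs_sec i S v m y hy).symm (gs_sec i S v m' y hy).symm))

theorem sec_smul_right {n : ℕ} {W : Y.Opens} (v : Fin n → Γ(Omega.conormal i, W)) (r : Γ(Y, W)) (m : Γ(M, W)) :
    sec i S v (r • m) = r • sec i S v m :=
  gs_ext _ fun y hy => by
    rw [gs_sec, gs_smul, gs_smul, gs_sec, Θ_smul_right]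

/-- The classes, as an alternating map on sections. -/
def secAlt {n : ℕ} (W : Y.Opens) (m : Γ(M, W)) :
    Γ(Omega.conormal i, W) [⋀^Fin n]→ₗ[Γ(Y, W)] Γ(Hs i S n, W) where
  toFun v := sec i S v m
  map_update_add' := by
    intro _ v k a b
    refine gs_ext _ fun y hy => ?_
    have key : ∀ c : Γ(Omega.conormal i, W), gs _ hy (sec i S (Function.update v k c) m) =
        ΘAlt i S n y (gs _ hy m) (Function.update (fun l => gs _ hy (v l)) k (gs _ hy c)) := fun c => by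
      rw [gs_sec, ΘAlt_apply]
      refine congrArg (fun x => Θ i S n y x _) (funext fun l => ?_)
      exact Function.apply_update (fun _ z => gs (Omega.conormal i) hy z) v k c l
    exact ((key (a + b)).trans ((congrArg (fun z => ΘAlt i S n y (gs _ hy m)
      (Function.update (fun l => gs _ hy (v l)) k z)) (map_add _ a b)).trans
      (((ΘAlt i S n y (gs _ hy m)).map_update_add _ _ _ _).trans (congrArg₂ _ (key a).symm (key b).symm)))).trans
      (map_add _ _ _).symm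
  map_update_smul' := by
    intro _ v k r a
    refine gs_ext _ fun y hy => ?_
    have key : ∀ c : Γ(Omega.conormal i, W), gs _ hy (sec i S (Function.update v k c) m) =
        ΘAlt i S n y (gs _ hy m) (Function.update (fun l => gs _ hy (v l)) k (gs _ hy c)) := fun c => by
      rw [gs_sec, ΘAlt_apply]
      refine congrArg (fun x => Θ i S n y x _) (funext fun l => ?_)
      exact Function.apply_update (fun _ z => gs (Omega.conormal i) hy z) v k c l
    rw [key, gs_smul, gs_smul, AlternatingMap.map_update_smul, key]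
  map_eq_zero_of_eq' := by
    intro v k l hkl hne
    refine gs_ext _ fun y hy => ?_
    rw [gs_sec, ← ΘAlt_apply, AlternatingMap.map_eq_zero_of_eq _ _ (i := k) (j := l) (by simp only [hkl]) hne]
    exact (map_zero _).symm

theorem secAlt_apply {n : ℕ} (W : Y.Opens) (m : Γ(M, W)) (v : Fin n → Γ(Omega.conormal i, W)) :
    secAlt i S W m v = sec i S v m := rfl

end Groth.L29.TorExt
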