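import Groth.Agent.L29.TorExt.Main
import Groth.Agent.L10.FMDiag.Basic
import Groth.Agent.Lead.FlatBCGlobal
import Groth.Agent.L29.DCoh.RHomQCoh
import Groth.Agent.L00.KFlatDerived
import Groth.Agent.L03.AdjLin.Tools

/-!
# The derived pull back of `i_* M` and the self-intersection `i_* O ⊗^L i_* O`
-/

set_option autoImplicit false
set_option backward.isDefEq.respectTransparency false
set_option backward.isDefEq.respectTransparency.types false
set_option linter.style.haveILetI false

universe u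

open CategoryTheory CategoryTheory.Limits AlgebraicGeometry Groth.L29.BC Groth.L29.DC

attribute [local instance] HasDerivedCategory.standard

noncomputable section

namespace Groth.L29.TorExt

variable {X Y : Scheme.{u}} (i : Y ⟶ X)

/-- cohomology of `Q K` -/
def HDIso {Z : Scheme.{u}} (K : CochainComplex Z.Modules ℤ) (n : ℤ) :
    DCoh.HD (DerivedCategory.Q.obj K) n ≅ K.homology n :=
  (DerivedCategory.homologyFunctorFactors Z.Modules n).app K

variable {T : X.Modules} (S : SheafRes T)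

theorem nonempty_Q_iso : Nonempty (DerivedCategory.Q.obj S.R ≅ DCoh.inD X T) := by
  haveI := S.qis
  haveI := (DerivedCategory.isIso_Q_map_iff_quasiIso _ S.q).2 inferInstance
  exact ⟨asIso (DerivedCategory.Q.map S.q) ≪≫ ((DerivedCategory.singleFunctorIsoCompQ X.Modules 0).app T).symm⟩

theorem nonempty_Lpull_iso [DCoh.HasLpull i] :
    Nonempty ((DCoh.Lpull i).obj (DCoh.inD X T) ≅ DerivedCategory.Q.obj (pullCx i S)) := by
  obtain ⟨e⟩ := nonempty_Q_iso S
  exact ⟨(DCoh.Lpull i).mapIso e.symm ≪≫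
    Groth.L00.DerivedApi.objIso (Groth.L00.DerivedApi.acyclicKFlat_pullback i) S.R S.kflat⟩

variable [IsClosedImmersion i]

theorem nonempty_HD_Lpull [DCoh.HasLpull i] (h : HasFrames i) {M : Y.Modules} (hM : FlatMod.IsFinLocFree M)
    {n : ℕ} {L : Y.Modules} (hL : ExtPow.IsExtPow n (Omega.conormal i) L) :
    Nonempty (DCoh.HD ((DCoh.Lpull i).obj (DCoh.inD X ((Scheme.Modules.pushforward i).obj M))) (-(n : ℤ)) ≅
      CohB1.tensorMod M L) := by
  obtain ⟨S⟩ := exists_sheafRes ((Scheme.Modules.pushforward i).obj M)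
  obtain ⟨e⟩ := nonempty_Lpull_iso i S
  obtain ⟨Φ⟩ := nonempty_iso_Hs i S h hM hL
  exact ⟨(DerivedCategory.homologyFunctor Y.Modules (-(n : ℤ))).mapIso e ≪≫ HDIso _ _ ≪≫ Φ.symm⟩

/-- `Tor_n (i_* O, i_* O) ≅ i_* (∧^n C)` -/
theorem nonempty_tor (h : HasFrames i)
    [DCoh.HasLTensorMod ((Scheme.Modules.pushforward i).obj (Coh.structureModule Y))]
    {n : ℕ} {L : Y.Modules} (hL : ExtPow.IsExtPow n (Omega.conormal i) L) :
    Nonempty (DCoh.HD ((DCoh.LTensorMod ((Scheme.Modules.pushforward i).obj (Coh.structureModule Y))).obj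
      (DCoh.inD X ((Scheme.Modules.pushforward i).obj (Coh.structureModule Y)))) (-(n : ℤ)) ≅
      (Scheme.Modules.pushforward i).obj L) := by
  let T := (Scheme.Modules.pushforward i).obj (Coh.structureModule Y)
  haveI := Groth.L00.KFlat.hasLpull i
  haveI := RpushQC.hasRpush i
  haveI := Groth.L17.PushQCoh.additive_push i
  haveI := Groth.L00.KFlat.hasLTensorCx (Groth.Lead.LTMod.S0 T)
  haveI := Groth.L00.KFlat.hasLTensorCx ((Proj.pushCx i).obj (RHom.O0 Y))
  haveI := Groth.L17.ClosedPush.preservesColimits_push i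
  haveI : PreservesColimitsOfSize.{0, 0} (Scheme.Modules.pushforward i) :=
    preservesColimitsOfSize_shrink.{0, u, 0, u} _
  haveI : PreservesFiniteColimits (Scheme.Modules.pushforward i) :=
    PreservesColimitsOfSize.preservesFiniteColimits _
  haveI : PreservesLimitsOfSize.{0, 0} (Scheme.Modules.pushforward i) :=
    (Scheme.Modules.pullbackPushforwardAdjunction i).rightAdjoint_preservesLimits
  haveI : PreservesFiniteLimits (Scheme.Modules.pushforward i) :=
    PreservesLimitsOfSize.preservesFiniteLimits _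
  let eT : DerivedCategory.Q.obj ((Proj.pushCx i).obj (RHom.O0 Y)) ≅
      DerivedCategory.Q.obj (Groth.Lead.LTMod.S0 T) :=
    DerivedCategory.Q.mapIso
      ((HomologicalComplex.singleMapHomologicalComplex (Scheme.Modules.pushforward i) (ComplexShape.up ℤ) 0).app _)
  obtain ⟨e₁⟩ := ProjQC.nonempty_LTensorCx_congr eT
  obtain ⟨e₂⟩ := Groth.L10.FMDiag.nonempty_tensor_push i
  obtain ⟨S⟩ := exists_sheafRes T
  obtain ⟨e₃⟩ := nonempty_Lpull_iso i S
  obtain ⟨Φ⟩ := nonempty_iso_Hs i S h (Groth.L03.AdjLin.isFinLocFree_structureModule) hL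
  let e : (DCoh.LTensorMod T).obj (DCoh.inD X T) ≅ DerivedCategory.Q.obj ((Proj.pushCx i).obj (pullCx i S)) :=
    (Groth.Lead.LTMod.iso T).app _ ≪≫ e₁.symm.app _ ≪≫ e₂.app _ ≪≫ (DCoh.Rpush i).mapIso e₃ ≪≫
      ((Groth.L10.FMDiag.rpushIso i).app (pullCx i S)).symm
  refine ⟨(DerivedCategory.homologyFunctor X.Modules (-(n : ℤ))).mapIso e ≪≫ HDIso _ _ ≪≫
    ((pullCx i S).sc (-(n : ℤ))).mapHomologyIso (Scheme.Modules.pushforward i) ≪≫
    (Scheme.Modules.pushforward i).mapIso (Φ.symm ≪≫ Groth.L00.Tensor.tensorUnitLeft L)⟩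

end Groth.L29.TorExt
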