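import Groth.Agent.L29.TorExt.Derived
import Groth.Agent.L29.K.Tr
import Groth.Agent.L10.DerTrunc
import Groth.Agent.L29.DCoh.Triangle
import Groth.Agent.L29.DCoh.TensorPerfect
import Groth.Agent.L12.ExtSh.Free
import Groth.Agent.L12.StabLimit
import Groth.Agent.L19.Thick.LciConormalSheaf
import Groth.Agent.Lead.PCProjBasic
import Groth.Agent.Lead.KProjPerf
import Groth.Prelude.Def_SGA6

/-!
# The class of `Li^* i_* M` in `K^•`
-/

set_option autoImplicit false
set_option backward.isDefEq.respectTransparency false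
set_option backward.isDefEq.respectTransparency.types false
set_option linter.style.haveILetI false

universe u

open CategoryTheory CategoryTheory.Limits AlgebraicGeometry

attribute [local instance] HasDerivedCategory.standard

noncomputable section

namespace Groth.L29.TorExt

variable {X : Scheme.{u}}

local notation "Hf" => DerivedCategory.homologyFunctor X.Modules
local notation "tt" => DerivedCategory.TStructure.t (C := X.Modules)

theorem perf_single {M : X.Modules} (hM : DCoh.IsPerfect (DCoh.inD X M)) (n : ℤ) :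
    DCoh.IsPerfect ((DerivedCategory.singleFunctor X.Modules n).obj M) :=
  Groth.L29.DC.isPerfect_of_iso
    (((DerivedCategory.singleFunctors X.Modules).shiftIso (-n) n 0 (by omega)).app M)
    (Groth.L29.DC.perfect_shift hM (-n))

theorem cl_single_neg {M : X.Modules} (hM : DCoh.IsPerfect (DCoh.inD X M)) (p : ℕ) :
    KZero.clTr (SGA6.perfP X) ((DerivedCategory.singleFunctor X.Modules (-(p : ℤ))).obj M) =
      (-1 : ℤ) ^ p • KZero.clTr (SGA6.perfP X) (DCoh.inD X M) := by
  induction p with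
  | zero => simp
  | succ p ih =>
    let e : ((DerivedCategory.singleFunctor X.Modules (-(p : ℤ))).obj M)⟦(1 : ℤ)⟧ ≅
        (DerivedCategory.singleFunctor X.Modules (-((p + 1 : ℕ) : ℤ))).obj M :=
      ((DerivedCategory.singleFunctors X.Modules).shiftIso (1 : ℤ) (-((p + 1 : ℕ) : ℤ)) (-(p : ℤ))
      (by push_cast; ring)).app M
    have h1 : SGA6.perfP X (((DerivedCategory.singleFunctor X.Modules (-(p : ℤ))).obj M)⟦(1 : ℤ)⟧) :=
      Groth.L29.DC.perfect_shift (perf_single hM _) 1
    rw [← Groth.L29.KTr.iso (Groth.Lead.KProjPerf.perf_zero X) e h1 (perf_single hM _)]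
    rw [show KZero.clTr (SGA6.perfP X) (((DerivedCategory.singleFunctor X.Modules (-(p : ℤ))).obj M)⟦(1 : ℤ)⟧) =
      -KZero.clTr (SGA6.perfP X) ((DerivedCategory.singleFunctor X.Modules (-(p : ℤ))).obj M) from
      Groth.L29.KTr.shift_one (Groth.Lead.KProjPerf.perf_zero X) (perf_single hM _) h1, ih, pow_succ]
    simp

/-- The class of a complex in degrees `[-c, 0]` with perfect cohomology. -/
theorem cl_eq_sum (P : ℕ → X.Modules) : ∀ (c : ℕ) (K : DCoh.D X), K.IsLE 0 → K.IsGE (-(c : ℤ)) →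
    DCoh.IsPerfect K → (∀ p, p ≤ c → DCoh.IsPerfect (DCoh.inD X (P p))) →
    (∀ p : ℕ, p ≤ c → Nonempty (DCoh.HD K (-(p : ℤ)) ≅ P p)) →
    KZero.clTr (SGA6.perfP X) K =
      ∑ p ∈ Finset.range (c + 1), (-1 : ℤ) ^ p • KZero.clTr (SGA6.perfP X) (DCoh.inD X (P p)) := by
  intro c
  induction c with
  | zero =>
    intro K h0 hc hK hP hH
    haveI : K.IsLE (-(0 : ℕ) : ℤ) := h0
    haveI := hc
    obtain ⟨e⟩ := Groth.L10.exists_iso_single_H (A := X.Modules) K (-(0 : ℕ) : ℤ)
    obtain ⟨a⟩ := hH 0 le_rfl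
    have e' := e ≪≫ (DerivedCategory.singleFunctor X.Modules (-((0 : ℕ) : ℤ))).mapIso a
    rw [Finset.sum_range_one, Groth.L29.KTr.iso (Groth.Lead.KProjPerf.perf_zero X) e' hK (perf_single (hP 0 le_rfl) _),
      cl_single_neg (hP 0 le_rfl)]
  | succ c ih =>
    intro K h0 hc hK hP hH
    haveI := h0
    haveI := hc
    set a : ℤ := -((c + 1 : ℕ) : ℤ) with ha
    let L := ((tt).truncLT (a + 1)).obj K
    let R := ((tt).truncGE (a + 1)).obj K
    haveI : DerivedCategory.IsLE L a := inferInstanceAs ((tt).IsLE (((tt).truncLT (a + 1)).obj K) a)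
    haveI : DerivedCategory.IsGE L a := by
      rw [DerivedCategory.isGE_iff]
      intro i hi
      haveI := Groth.L10.isIso_H_ι (A := X.Modules) (a + 1) i (by omega) K
      exact (DerivedCategory.isZero_of_isGE K a i hi).of_iso (asIso ((Hf i).map (((tt).truncLTι (a + 1)).app K)))
    obtain ⟨e⟩ := Groth.L10.exists_iso_single_H (A := X.Modules) L a
    haveI := Groth.L10.isIso_H_ι (A := X.Modules) (a + 1) a (by omega) K
    obtain ⟨b⟩ := hH (c + 1) le_rfl
    let e' := e ≪≫ (DerivedCategory.singleFunctor X.Modules a).mapIso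
      (asIso ((Hf a).map (((tt).truncLTι (a + 1)).app K)) ≪≫ b)
    have hL : DCoh.IsPerfect L := Groth.L29.DC.isPerfect_of_iso e'.symm (perf_single (hP _ le_rfl) _)
    have hT := (tt).triangleLTGE_distinguished (a + 1) K
    have hR : DCoh.IsPerfect R := (Groth.L29.DC.perfect_two_out_of_three hT).1 hL hK
    have hRge : R.IsGE (-(c : ℤ)) := by
      rw [show -(c : ℤ) = a + 1 by omega]; infer_instance
    have hRle : R.IsLE 0 := by
      rw [DerivedCategory.isLE_iff]
      intro i hi
      haveI := Groth.L10.isIso_H_π (A := X.Modules) (a + 1) i (by omega) K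
      exact (DerivedCategory.isZero_of_isLE K 0 i hi).of_iso
        (asIso ((Hf i).map (((tt).truncGEπ (a + 1)).app K))).symm
    have hRH : ∀ p : ℕ, p ≤ c → Nonempty (DCoh.HD R (-(p : ℤ)) ≅ P p) := fun p hp => by
      haveI := Groth.L10.isIso_H_π (A := X.Modules) (a + 1) (-(p : ℤ)) (by omega) K
      obtain ⟨d⟩ := hH p (by omega)
      exact ⟨(asIso ((Hf (-(p : ℤ))).map (((tt).truncGEπ (a + 1)).app K))).symm ≪≫ d⟩
    have key := Groth.L29.KTr.triangle (Q := SGA6.perfP X) _ hT hL hK hR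
    change KZero.clTr (SGA6.perfP X) K = KZero.clTr (SGA6.perfP X) L + KZero.clTr (SGA6.perfP X) R at key
    rw [key, Groth.L29.KTr.iso (Groth.Lead.KProjPerf.perf_zero X) e' hL (perf_single (hP _ le_rfl) _),
      cl_single_neg (hP _ le_rfl), ih R hRle hRge hR (fun p hp => hP p (by omega)) hRH,
      Finset.sum_range_succ _ (c + 1), add_comm]

variable {Y : Scheme.{u}} (i : Y ⟶ X) [IsClosedImmersion i]

theorem cl_Lpull_push [DCoh.HasLpull i] (h : HasFrames i) {c : ℕ}
    (hN : FlatMod.IsFinLocFreeOfRank c (Omega.conormal i)) (L : ℕ → Y.Modules)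
    (hL : ∀ p : ℕ, p ≤ c → ExtPow.IsExtPow p (Omega.conormal i) (L p)) {M : Y.Modules}
    (hM : FlatMod.IsFinLocFree M)
    (hP : DCoh.IsPerfect ((DCoh.Lpull i).obj (DCoh.inD X ((Scheme.Modules.pushforward i).obj M)))) :
    KZero.clTr (SGA6.perfP Y) ((DCoh.Lpull i).obj (DCoh.inD X ((Scheme.Modules.pushforward i).obj M))) =
      ∑ p ∈ Finset.range (c + 1), (-1 : ℤ) ^ p • KZero.clTr (SGA6.perfP Y)
        (DCoh.inD Y (((DCoh.tensorBi (X := Y)).obj M).obj (L p))) := by
  set K := (DCoh.Lpull i).obj (DCoh.inD X ((Scheme.Modules.pushforward i).obj M))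
  have hle : K.IsLE 0 := by
    obtain ⟨S⟩ := exists_sheafRes ((Scheme.Modules.pushforward i).obj M)
    obtain ⟨e⟩ := nonempty_Lpull_iso i S
    rw [DerivedCategory.isLE_iff]
    intro j hj
    haveI := S.le
    refine IsZero.of_iso ?_ ((DerivedCategory.homologyFunctor Y.Modules j).mapIso e ≪≫ HDIso _ _)
    refine HomologicalComplex.ExactAt.isZero_homology (ShortComplex.exact_of_isZero_X₂ _ ?_)
    exact (Scheme.Modules.pullback i).map_isZero (S.R.isZero_of_isStrictlyLE 0 j hj)
  have hge : K.IsGE (-(c : ℤ)) := by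
    rw [DerivedCategory.isGE_iff]
    intro j hj
    obtain ⟨n, rfl⟩ : ∃ n : ℕ, j = -(n : ℤ) := ⟨j.natAbs, by omega⟩
    haveI : Coh.IsQCoh (Omega.conormal i) := Groth.L19.Thick.isQCoh_conormal
    obtain ⟨L', hL'⟩ := Groth.L12.ExtSh.exists_isExtPow (X := Y) (i := n) (E := Omega.conormal i)
    obtain ⟨e⟩ := nonempty_HD_Lpull i h hM hL'
    refine IsZero.of_iso ?_ e
    have hz : IsZero L' := Groth.L12.StabLimit.isZero_of_rank_zero
      (Nat.choose_eq_zero_of_lt (show c < n by omega) ▸ Groth.L12.ExtSh.isFinLocFreeOfRank_of_isExtPow hN hL')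
    exact ((DCoh.tensorBi (X := Y)).obj M).map_isZero hz
  refine cl_eq_sum _ c K hle hge hP (fun p hp => ?_) fun p hp => nonempty_HD_Lpull i h hM (hL p hp)
  refine Groth.Lead.PCProj.isPerfect_inD (Groth.L29.DC.isFinLocFree_tensor hM fun x => ?_)
  obtain ⟨U, hU, e⟩ := Groth.L12.ExtSh.isFinLocFreeOfRank_of_isExtPow hN (hL p hp) x
  exact ⟨U, _, hU, e⟩

end Groth.L29.TorExt
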