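import Groth.Agent.L29.TorExt.Theta

/-!
# A Koszul lift at a point spreads to a neighbourhood
-/

set_option autoImplicit false
set_option backward.isDefEq.respectTransparency false
set_option backward.isDefEq.respectTransparency.types false
set_option linter.style.haveILetI false

universe u

open CategoryTheory CategoryTheory.Limits AlgebraicGeometry TopologicalSpace Opposite
open Groth.L18.Frame (rs rs_rs rs_self)

noncomputable section

namespace Groth.L29.TorExt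

open Set.powersetCard (ofFinEmbEquiv)

variable {A : Type u} [CommRing A] {n k : ℕ}

/-- The wedge of standard vectors along an increasing map. -/
def ew (A : Type u) [CommRing A] {n k : ℕ} (g : Fin k ↪o Fin n) : ⋀[A]^k (Fin n → A) :=
  exteriorPower.ιMulti A k fun j => Pi.single (g j) 1

theorem ew_eq_basis (g : Fin k ↪o Fin n) :
    ew A g = (Pi.basisFun A (Fin n)).exteriorPower k (ofFinEmbEquiv g) := by
  rw [exteriorPower.basis_apply, exteriorPower.ιMulti_family, Equiv.symm_apply_apply, ew]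
  exact congrArg _ (funext fun j => by simp)

theorem exists_linear_ew {N : Type u} [AddCommGroup N] [Module A N] (v : (Fin k ↪o Fin n) → N) :
    ∃ f : ⋀[A]^k (Fin n → A) →ₗ[A] N, ∀ g, f (ew A g) = v g :=
  ⟨((Pi.basisFun A (Fin n)).exteriorPower k).constr A fun s => v (ofFinEmbEquiv.symm s), fun g => by
    rw [ew_eq_basis, Module.Basis.constr_basis, Equiv.symm_apply_apply]⟩

theorem hom_ext_ew {N : Type u} [AddCommGroup N] [Module A N] {f f' : ⋀[A]^k (Fin n → A) →ₗ[A] N}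
    (h : ∀ g, f (ew A g) = f' (ew A g)) : f = f' :=
  ((Pi.basisFun A (Fin n)).exteriorPower k).ext fun s => by
    have := h (ofFinEmbEquiv.symm s)
    rwa [ew_eq_basis, Equiv.apply_symm_apply] at this

/-- The increasing map with an entry omitted. -/
def face (g : Fin (k + 1) ↪o Fin n) (j : Fin (k + 1)) : Fin k ↪o Fin n :=
  (Fin.succAboveOrderEmb j).trans g

theorem kD_ew (f : Fin n → A) (g : Fin (k + 1) ↪o Fin n) :
    kD (Fintype.linearCombination A f) k (ew A g) =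
      ∑ j : Fin (k + 1), ((-1 : A) ^ (j : ℕ) * f (g j)) • ew A (face g j) := by
  rw [ew, kD_ι, KoszSh.dGen]
  refine Finset.sum_congr rfl fun j _ => ?_
  rw [Fintype.linearCombination_apply_single, one_smul]
  rfl

variable {X : Scheme.{u}}

theorem gs_sum (N : X.Modules) {U : X.Opens} {x : X} (hx : x ∈ U) {ι : Type*} (s : Finset ι)
    (m : ι → Γ(N, U)) : gs N hx (∑ a ∈ s, m a) = ∑ a ∈ s, gs N hx (m a) := by
  classical
  induction s using Finset.induction_on with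
  | empty => rw [Finset.sum_empty, Finset.sum_empty]; exact map_zero _
  | insert a s ha ih =>
    rw [Finset.sum_insert ha, Finset.sum_insert ha, ← ih]
    exact map_add _ _ _

theorem exists_spread {ι : Type*} [Finite ι] (N : ι → X.Modules) {x : X}
    (p : ∀ a, (Groth.L00.Stk.F X x).obj (N a)) :
    ∃ (U : X.Opens) (hx : x ∈ U) (s : ∀ a, Γ(N a, U)), ∀ a, gs (N a) hx (s a) = p a := by
  classical
  cases nonempty_fintype ι
  choose U hU s hs using fun a => exists_gs (N a) (p a)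
  let V : X.Opens := Finset.univ.inf U
  have hV : x ∈ V := by
    rw [← SetLike.mem_coe, TopologicalSpace.Opens.coe_finset_inf]
    simpa using hU
  exact ⟨V, hV, fun a => rs (N a) (Finset.inf_le (Finset.mem_univ a)) (s a), fun a =>
    (gs_rs (N a) _ hV _).trans (hs a)⟩

theorem exists_eq_nhd_finite {ι : Type*} [Finite ι] (N : ι → X.Modules) {U : X.Opens} {x : X} (hx : x ∈ U)
    (s t : ∀ a, Γ(N a, U)) (h : ∀ a, gs (N a) hx (s a) = gs (N a) hx (t a)) :
    ∃ W : X.Opens, x ∈ W ∧ W ≤ U ∧ ∀ z, z ∈ W → ∀ (hz : z ∈ U) (a : ι), gs (N a) hz (s a) = gs (N a) hz (t a) := by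
  classical
  cases nonempty_fintype ι
  choose W hW hWU hWe using fun a => exists_eq_nhd (N a) hx hx (h a)
  refine ⟨U ⊓ Finset.univ.inf W, ⟨hx, ?_⟩, inf_le_left, fun z hz hzU a =>
    hWe a z ((Finset.inf_le (Finset.mem_univ a) : Finset.univ.inf W ≤ W a) hz.2) hzU hzU⟩
  show x ∈ (((Finset.univ.inf W : X.Opens)) : Set X)
  rw [TopologicalSpace.Opens.coe_finset_inf]
  simpa using hW

variable {T : X.Modules} (S : SheafRes T)

/-- A lift at one point is the germ of lifts at all nearby points, with top classes from a section. -/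
theorem exists_lift_nhd {U : X.Opens} (f : Fin n → Γ(X, U)) (t : Γ(T, U)) {x₀ : X} (hx₀ : x₀ ∈ U)
    (L₀ : Lift (S.stalk x₀)
      (Fintype.linearCombination (X.presheaf.stalk x₀) fun j => (X.presheaf.germ U x₀ hx₀ (f j) : X.presheaf.stalk x₀))
      (gs T hx₀ t)) :
    ∃ (V : X.Opens) (hx : x₀ ∈ V) (hVU : V ≤ U) (rt : Γ(S.R.X (deg n), V)),
      gs _ hx rt = L₀.f n (exteriorPower.ιMulti _ n fun j => Pi.single j 1) ∧
      ∀ (x : X) (hxV : x ∈ V), ∃ L : Lift (S.stalk x)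
          (Fintype.linearCombination (X.presheaf.stalk x)
            fun j => (X.presheaf.germ U x (hVU hxV) (f j) : X.presheaf.stalk x))
          (gs T (hVU hxV) t),
        L.f n (exteriorPower.ιMulti _ n fun j => Pi.single j 1) = gs _ hxV rt := by
  let ι := Σ k : Fin (n + 2), Fin (k : ℕ) ↪o Fin n
  obtain ⟨U₁, hx₁, r₀, hr₀⟩ := exists_spread (ι := ι) (fun a => S.R.X (deg a.1)) (x := x₀)
    fun a => L₀.f a.1 (ew _ a.2)
  let V₁ : X.Opens := U ⊓ U₁
  have hxV₁ : x₀ ∈ V₁ := ⟨hx₀, hx₁⟩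
  have hbound : ∀ {k : ℕ}, (Fin k ↪o Fin n) → k < n + 2 := fun {k} g => by
    have := Fintype.card_le_of_injective g g.injective
    simp at this
    omega
  let r : ∀ (k : ℕ), (Fin k ↪o Fin n) → Γ(S.R.X (deg k), V₁) := fun k g =>
    rs (S.R.X (deg k)) (inf_le_right : V₁ ≤ U₁) (r₀ ⟨⟨k, hbound g⟩, g⟩)
  have hr : ∀ (k : ℕ) (g : Fin k ↪o Fin n), gs _ hxV₁ (r k g) = L₀.f k (ew _ g) := fun k g =>
    (gs_rs _ _ hxV₁ _).trans (hr₀ ⟨⟨k, hbound g⟩, g⟩)
  let f₁ : Fin n → Γ(X, V₁) := fun j => X.presheaf.map (homOfLE (inf_le_left : V₁ ≤ U)).op (f j)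
  have hf₁ : ∀ (x : X) (hx : x ∈ V₁) (j : Fin n), X.presheaf.germ V₁ x hx (f₁ j) = X.presheaf.germ U x hx.1 (f j) :=
    fun x hx j => X.presheaf.germ_res_apply (homOfLE (inf_le_left : V₁ ≤ U)) x hx (f j)
  let lhs : ∀ a : (Σ k : Fin (n + 1), Fin ((k : ℕ) + 1) ↪o Fin n), Γ(S.R.X (deg a.1), V₁) := fun a =>
    (S.R.d (deg ((a.1 : ℕ) + 1)) (deg a.1)).app V₁ (r _ a.2)
  let rhs : ∀ a : (Σ k : Fin (n + 1), Fin ((k : ℕ) + 1) ↪o Fin n), Γ(S.R.X (deg a.1), V₁) := fun a =>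
    ∑ j : Fin ((a.1 : ℕ) + 1), ((-1 : Γ(X, V₁)) ^ (j : ℕ) * f₁ (a.2 j)) • r _ (face a.2 j)
  have hrhs : ∀ (x : X) (hx : x ∈ V₁) (a : Σ k : Fin (n + 1), Fin ((k : ℕ) + 1) ↪o Fin n),
      gs _ hx (rhs a) = ∑ j : Fin ((a.1 : ℕ) + 1), ((-1 : X.presheaf.stalk x) ^ (j : ℕ) *
        X.presheaf.germ U x hx.1 (f (a.2 j))) • gs _ hx (r _ (face a.2 j)) := fun x hx a => by
    rw [gs_sum]
    refine Finset.sum_congr rfl fun j _ => ?_
    rw [gs_smul, map_mul, map_pow, map_neg, map_one, hf₁]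
  obtain ⟨V₂, hxV₂, hV₂, he₂⟩ := exists_eq_nhd_finite (ι := Σ k : Fin (n + 1), Fin ((k : ℕ) + 1) ↪o Fin n)
    (fun a => S.R.X (deg a.1)) hxV₁ lhs rhs (by
      rintro ⟨k, g⟩
      refine ((stl_gs _ hxV₁ _).symm.trans ?_).trans (hrhs x₀ hxV₁ ⟨k, g⟩).symm
      rw [hr]
      refine (L₀.comm k (ew _ g)).trans ?_
      rw [kD_ew, map_sum]
      simp only [map_smul, hr])
  let g₀ : Fin 0 ↪o Fin n := OrderEmbedding.ofIsEmpty
  obtain ⟨V₃, hxV₃, -, he₃⟩ := exists_eq_nhd T hxV₁ hx₀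
    (s := S.aug.app V₁ (r 0 g₀)) (t := t) (by
      rw [← stl_gs, hr]
      refine Eq.trans ?_ L₀.aug
      exact congrArg (fun e => (S.stalk x₀).ε (L₀.f 0 e))
        (congrArg (exteriorPower.ιMulti _ 0) (Subsingleton.elim _ _)))
  let V := V₂ ⊓ V₃
  have hV1 : V ≤ V₁ := inf_le_left.trans hV₂
  let idg : Fin n ↪o Fin n := (OrderIso.refl (Fin n)).toOrderEmbedding
  refine ⟨V, ⟨hxV₂, hxV₃⟩, hV1.trans inf_le_left, rs _ hV1 (r n idg), ?_, fun x hxV => ?_⟩
  · rw [gs_rs, hr]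
    rfl
  have hx1 : x ∈ V₁ := hV1 hxV
  choose F hF using fun k : ℕ => exists_linear_ew (A := X.presheaf.stalk x) (N := (S.stalk x).obj k)
    (n := n) (k := k) fun g => gs _ hx1 (r k g)
  refine ⟨⟨F, ?_, fun k z => ?_⟩, ?_⟩
  · rw [show one₀ (X.presheaf.stalk x) (Fin n → X.presheaf.stalk x) = ew _ g₀ from
      congrArg (exteriorPower.ιMulti _ 0) (Subsingleton.elim _ _), hF]
    exact (stl_gs S.aug hx1 _).trans (he₃ x hxV.2 hx1 hx1.1)
  · refine LinearMap.congr_fun (hom_ext_ew (f := ((S.stalk x).d k).comp (F (k + 1)))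
      (f' := (F k).comp (kD _ k)) fun g => ?_) z
    have hk : k < n + 1 := by have := hbound g; omega
    show stl _ x (F (k + 1) (ew _ g)) = F k (kD _ k (ew _ g))
    rw [hF, stl_gs, kD_ew, map_sum]
    simp only [map_smul, hF]
    exact (he₂ x hxV.1 hx1 ⟨⟨k, hk⟩, g⟩).trans (hrhs x hx1 ⟨⟨k, hk⟩, g⟩)
  · show F n (ew _ idg) = _
    rw [hF]
    exact (gs_rs _ hV1 hxV _).symm

end Groth.L29.TorExt
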