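import Groth.Agent.L29.TorExt.Classes
import Groth.Agent.L03.ShStab.PreHom
import Groth.Agent.L12.ExtSh.Unique
import Groth.Agent.L19.ConormalBasis
import Groth.Agent.L14.RegImmStalk.Stalk
import Groth.Agent.L15.Ref.ExtDiv
import Groth.Agent.L07.QuasiRegular
import Groth.Agent.L07.KoszulFlat
import Groth.Agent.L04.Koszul.Vanish
import Groth.Agent.L19.Thick.H1Reg
import Groth.Agent.L14.RegImmStalk.Kinds
import Groth.Agent.L29.Blow.KosBridge
import Mathlib.RingTheory.Regular.Flat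

/-!
# `H^{-n} (i^* R) ≅ M ⊗ ∧^n C` for a regular closed immersion and a flat resolution `R` of `i_* M`
-/

set_option autoImplicit false
set_option backward.isDefEq.respectTransparency false
set_option backward.isDefEq.respectTransparency.types false
set_option linter.style.haveILetI false

universe u

open CategoryTheory CategoryTheory.Limits AlgebraicGeometry TopologicalSpace Opposite OmegaSh
open Groth.L18.Frame (rs rs_rs rs_self pull)
open Groth.L12.ExtSh (W wι wres wres_ι wres_smul W_hom_ext wres_extPow)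

noncomputable section

namespace Groth.L29.TorExt

variable {X Y : Scheme.{u}} (i : Y ⟶ X)

/-- Around every point the ideal of `i` is generated by a Koszul-regular sequence. -/
def HasFrames : Prop :=
  ∀ y : Y, ∃ U : X.affineOpens, i y ∈ U.1 ∧ ∃ l : List Γ(X, U.1),
    LCI.IsKoszulRegularSeq Γ(X, U.1) l ∧ RingHom.ker (i.app U.1).hom = Ideal.ofList l

theorem koszul_of_weakly {A : Type u} [CommRing A] {l : List A} (hl : RingTheory.Sequence.IsWeaklyRegular A l) :
    LCI.IsKoszulRegularSeq A l := fun j hj =>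
  (Groth.L04.Koszul.isZero_of_isWeaklyRegular l (ModuleCat.of A A) hl j hj).of_iso
    ((HomologicalComplex.homologyFunctor _ _ j).mapIso (eqToIso (Groth.L04.Koszul.koszul_eq l)))

theorem hasFrames_of_koszul (h : RegImm.IsRegularImmersion RegImm.Kind.koszul i) : HasFrames i := fun y => by
  obtain ⟨U, hy, -, l, hl, hker⟩ := h.2 y
  exact ⟨U, hy, l, hl, hker⟩

theorem hasFrames_of_regular (h : RegImm.IsRegularImmersion RegImm.Kind.regular i) : HasFrames i := fun y => by
  obtain ⟨U, hy, -, l, hl, hker⟩ := h.2 y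
  exact ⟨U, hy, l, koszul_of_weakly hl.toIsWeaklyRegular, hker⟩

theorem hasFrames_of_mor2 (h : Mor2.IsRegularClosedImmersion i) : HasFrames i := fun y => by
  haveI := h.1
  obtain ⟨U, hU, hy, l, hl, hker⟩ := h.2 y
  exact ⟨⟨U, hU⟩, hy, l, koszul_of_weakly hl.toIsWeaklyRegular, (Scheme.Hom.ker_apply i ⟨U, hU⟩).symm.trans hker⟩

variable [IsClosedImmersion i]

theorem exists_frame (h : HasFrames i) (y : Y) :
    ∃ (U : X.affineOpens) (hy : i y ∈ U.1) (c : ℕ) (f : Fin c → Γ(X, U.1))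
      (el : Fin c → Γ(ClSub.idealMod i.ker, U.1)),
      (∀ k, idealSect i.ker U.1 (el k) = f k) ∧ CAlgX.IsQuasiRegular f ∧
      Ideal.span (Set.range f) = RingHom.ker (i.app U.1).hom ∧
      LCI.IsKoszulRegularSeq (X.presheaf.stalk (i y))
        (List.ofFn fun k => (X.presheaf.germ U.1 (i y) hy (f k) : X.presheaf.stalk (i y))) ∧
      Ideal.span (Set.range fun k => (X.presheaf.germ U.1 (i y) hy (f k) : X.presheaf.stalk (i y))) = stIdeal i y := by
  obtain ⟨⟨U, hU⟩, hy, l, hl, hker⟩ := h y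
  let f : Fin l.length → Γ(X, U) := l.get
  have hspan : Ideal.span (Set.range f) = RingHom.ker (i.app U).hom := by
    rw [hker, Ideal.ofList]
    exact congrArg Ideal.span (Set.range_list_get l)
  have h0 : ∀ k, i.app U (f k) = 0 := fun k => by
    have : f k ∈ RingHom.ker (i.app U).hom := hspan ▸ Ideal.subset_span ⟨k, rfl⟩
    exact this
  choose el hel using fun k => Groth.L19.OmegaSh.exists_idealSect (i := i) U (f k) (h0 k)
  letI : Algebra Γ(X, U) (X.presheaf.stalk (i y)) := (X.presheaf.germ U (i y) hy).hom.toAlgebra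
  haveI := hU.isLocalization_stalk ⟨i y, hy⟩
  haveI : Module.Flat Γ(X, U) (X.presheaf.stalk (i y)) :=
    IsLocalization.flat _ (hU.primeIdealOf ⟨i y, hy⟩).asIdeal.primeCompl
  haveI : IsClosedImmersion (i ∣_ U) := IsZariskiLocalAtTarget.restrict ‹_› U
  have hk := Groth.L14.RegImmStalk.ker_stalkMap i hU ‹_› y hy
  refine ⟨⟨U, hU⟩, hy, l.length, f, el, hel,
    Groth.L14.RegImmStalk.isQuasiRegular_of_h1 (Groth.L19.Thick.isH1Regular_of_koszul hl), hspan, ?_, ?_⟩
  · have e : (List.ofFn fun k => (X.presheaf.germ U (i y) hy (f k) : X.presheaf.stalk (i y))) =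
        l.map (algebraMap Γ(X, U) (X.presheaf.stalk (i y))) := by
      conv_rhs => rw [← List.ofFn_get l]
      rw [List.map_ofFn]
      rfl
    rw [e]
    exact Groth.L07.KoszulFlat.isKoszulRegularSeq_map _ (RingHom.flat_algebraMap_iff.mpr inferInstance) l hl
  · rw [stIdeal, hk, ← hspan, Ideal.map_span, ← Set.range_comp]
    rfl

variable {M : Y.Modules} (S : SheafRes ((Scheme.Modules.pushforward i).obj M))
variable {n : ℕ} {L : Y.Modules}

/-- The classes on sections of the exterior power. -/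
def secLin (U : Y.affineOpens) :
    Γ(M, U.1) →ₗ[Γ(Y, U.1)] W (Omega.conormal i) n U →ₗ[Γ(Y, U.1)] Γ(Hs i S n, U.1) where
  toFun m := exteriorPower.alternatingMapLinearEquiv (secAlt i S U.1 m)
  map_add' m m' := by
    rw [← map_add]
    refine congrArg _ (AlternatingMap.ext fun v => ?_)
    exact sec_add_right i S v m m'
  map_smul' r m := by
    rw [RingHom.id_apply, ← map_smul]
    refine congrArg _ (AlternatingMap.ext fun v => ?_)
    exact sec_smul_right i S v r m

theorem secLin_ι (U : Y.affineOpens) (m : Γ(M, U.1)) (v : Fin n → Γ(Omega.conormal i, U.1)) :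
    secLin i S U m (wι (Omega.conormal i) n U v) = sec i S v m :=
  exteriorPower.alternatingMapLinearEquiv_apply_ιMulti _ v

theorem rs_secLin {U V : Y.affineOpens} (h : V.1 ≤ U.1) (m : Γ(M, U.1)) (z : W (Omega.conormal i) n U) :
    rs (Hs i S n) h (secLin i S U m z) = secLin i S V (rs M h m) (wres (Omega.conormal i) n h z) := by
  refine DFunLike.congr_fun (W_hom_ext (Omega.conormal i) n (U := U)
    (f := ((Hs i S n).presheaf.map (homOfLE h).op).hom.comp (secLin i S U m).toAddMonoidHom)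
    (g := (secLin i S V (rs M h m)).toAddMonoidHom.comp (wres (Omega.conormal i) n h)) fun r v => ?_) z
  show rs (Hs i S n) h (secLin i S U m (r • wι (Omega.conormal i) n U v)) =
    secLin i S V (rs M h m) (wres (Omega.conormal i) n h (r • wι (Omega.conormal i) n U v))
  rw [map_smul, wres_smul, wres_ι, map_smul, secLin_ι, secLin_ι]
  refine (Groth.L18.Frame.rs_smul (Hs i S n) h r (sec i S v m)).trans ?_
  exact congrArg _ (rs_sec i S h v m)

theorem exists_Φ (hL : ExtPow.IsExtPow n (Omega.conormal i) L) :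
    ∃ (φ : ∀ U : Y.affineOpens, (L.val.obj (op U.1)) ≃ₗ[Γ(Y, U.1)] W (Omega.conormal i) n U)
      (Φ : CohB1.tensorMod M L ⟶ Hs i S n),
      (∀ (U V : Y.affineOpens) (h : V.1 ≤ U.1) (s : Γ(L, U.1)),
        φ V (rs L h s) = wres (Omega.conormal i) n h (φ U s)) ∧
      ∀ (U : Y.affineOpens) (m : Γ(M, U.1)) (v : Fin n → Γ(Omega.conormal i, U.1)),
        Φ.app U.1 (Groth.L18.GenLoc.tens M L U.1 m ((φ U).symm (wι (Omega.conormal i) n U v))) = sec i S v m := by
  obtain ⟨φ, hφ⟩ := hL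
  have hres : ∀ (U V : Y.affineOpens) (h : V.1 ≤ U.1) (s : Γ(L, U.1)),
      φ V (rs L h s) = wres (Omega.conormal i) n h (φ U s) := fun U V h s =>
    wres_extPow (E := Omega.conormal i) φ hφ h s
  obtain ⟨Φ, hΦ⟩ := Groth.L03.ShStab.PreHom.exists_hom_tensor M L (Hs i S n)
    (fun U => (secLin i S U).compl₂ (φ U).toLinearMap) fun U V h m s => by
      show rs (Hs i S n) h (secLin i S U m (φ U s)) = secLin i S V (rs M h m) (φ V (rs L h s))
      rw [rs_secLin, hres]
  refine ⟨φ, Φ, hres, fun U m v => ?_⟩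
  rw [hΦ]
  show secLin i S U m (φ U ((φ U).symm (wι (Omega.conormal i) n U v))) = _
  rw [LinearEquiv.apply_symm_apply, secLin_ι]

theorem exists_span_germs {c : ℕ} {V : Y.Opens} {e : Fin c → Γ(Omega.conormal i, V)}
    (he : Groth.L19.ConormalBasis.IsBasisS (Omega.conormal i) e)
    (φ : ∀ U : Y.affineOpens, (L.val.obj (op U.1)) ≃ₗ[Γ(Y, U.1)] W (Omega.conormal i) n U)
    (hres : ∀ (U U' : Y.affineOpens) (h : U'.1 ≤ U.1) (s : Γ(L, U.1)),
      φ U' (rs L h s) = wres (Omega.conormal i) n h (φ U s))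
    (hV : IsAffineOpen V) (y : Y) (hy : y ∈ V) (p : (Groth.L00.Stk.F Y y).obj L) :
    ∃ b : (Fin n ↪o Fin c) → Y.presheaf.stalk y,
      ∑ g, b g • gs L hy ((φ ⟨V, hV⟩).symm (wι (Omega.conormal i) n ⟨V, hV⟩ fun j => e (g j))) = p := by
  obtain ⟨O, hO, s, rfl⟩ := exists_gs L p
  obtain ⟨V', hV', hyV', hle⟩ := exists_isAffineOpen_mem_and_subset (x := y) (U := V ⊓ O) ⟨hy, hO⟩
  have h1 : V' ≤ V := fun z hz => (hle hz).1
  have h2 : V' ≤ O := fun z hz => (hle hz).2
  let e' : Fin c → Γ(Omega.conormal i, V') := fun k => rs (Omega.conormal i) h1 (e k)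
  let B : Module.Basis (Fin c) Γ(Y, V') Γ(Omega.conormal i, V') :=
    Module.Basis.ofEquivFun (LinearEquiv.ofBijective (Fintype.linearCombination Γ(Y, V') e') (he V' h1)).symm
  have hB : ∀ k, B k = e' k := fun k => by
    simp [B, Module.Basis.coe_ofEquivFun, Fintype.linearCombination_apply_single]
  let w := φ ⟨V', hV'⟩ (rs L h2 s)
  let r : (Fin n ↪o Fin c) → Γ(Y, V') := fun g => (B.exteriorPower n).repr w (Set.powersetCard.ofFinEmbEquiv g)
  have hw : ∑ g, r g • wι (Omega.conormal i) n ⟨V', hV'⟩ (fun j => e' (g j)) = w := by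
    refine Eq.trans ?_ ((B.exteriorPower n).sum_repr w)
    refine Fintype.sum_equiv Set.powersetCard.ofFinEmbEquiv _ _ fun g => ?_
    rw [exteriorPower.basis_apply, exteriorPower.ιMulti_family, Equiv.symm_apply_apply]
    exact congrArg (r g • ·) (congrArg _ (funext fun j => (hB (g j)).symm))
  have hl : ∀ g : Fin n ↪o Fin c, rs L h1 ((φ ⟨V, hV⟩).symm (wι (Omega.conormal i) n ⟨V, hV⟩ fun j => e (g j))) =
      (φ ⟨V', hV'⟩).symm (wι (Omega.conormal i) n ⟨V', hV'⟩ fun j => e' (g j)) := fun g => by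
    refine (φ ⟨V', hV'⟩).injective ?_
    rw [LinearEquiv.apply_symm_apply]
    refine (hres ⟨V, hV⟩ ⟨V', hV'⟩ h1 _).trans ?_
    rw [LinearEquiv.apply_symm_apply, wres_ι]
  refine ⟨fun g => Y.presheaf.germ V' y hyV' (r g), ?_⟩
  rw [← gs_rs L h2 hyV' s, show rs L h2 s = (φ ⟨V', hV'⟩).symm w from ((φ ⟨V', hV'⟩).symm_apply_apply _).symm,
    ← hw, map_sum, gs_sum]
  refine Finset.sum_congr rfl fun g _ => ?_
  rw [map_smul, gs_smul, ← hl, gs_rs]

set_option maxHeartbeats 1600000 in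
theorem stl_τ (φ : ∀ U : Y.affineOpens, (L.val.obj (op U.1)) ≃ₗ[Γ(Y, U.1)] W (Omega.conormal i) n U)
    (hres : ∀ (U V : Y.affineOpens) (hVU : V.1 ≤ U.1) (s : Γ(L, U.1)),
      φ V (rs L hVU s) = wres (Omega.conormal i) n hVU (φ U s))
    (Φs : CohB1.tensorMod M L ⟶ Hs i S n)
    (hΦ : ∀ (U : Y.affineOpens) (m : Γ(M, U.1)) (v : Fin n → Γ(Omega.conormal i, U.1)),
      Φs.app U.1 (Groth.L18.GenLoc.tens M L U.1 m ((φ U).symm (wι (Omega.conormal i) n U v))) = sec i S v m)
    {y : Y} (U : X.affineOpens) (hy : i y ∈ U.1) {c : ℕ} (el : Fin c → Γ(ClSub.idealMod i.ker, U.1))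
    (f : Fin c → Γ(X, U.1)) (hel : ∀ k, idealSect i.ker U.1 (el k) = f k)
    (hξ : ∀ x, Fintype.linearCombination (X.presheaf.stalk (i y))
      (fun k => (X.presheaf.germ U.1 (i y) hy (f k) : X.presheaf.stalk (i y))) x ∈ stIdeal i y)
    (p : (Groth.L00.Stk.F Y y).obj M) (g : Fin n ↪o Fin c) :
    stl Φs y (Groth.L00.Stk.τfun y M L (p ⊗ₜ gs L (show y ∈ i ⁻¹ᵁ U.1 from hy)
      ((φ ⟨_, U.2.preimage i⟩).symm
        (wι (Omega.conormal i) n ⟨_, U.2.preimage i⟩ fun j => conormalSect i U.1 (el (g j)))))) =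
      ψ i S n y (Φ (S.stalk (i y)) (stIdeal i y) (smul_stalk_push_eq_zero i M y) _ hξ n (unc i y p)
        (ew (X.presheaf.stalk (i y)) g)) := by
  have hV : IsAffineOpen (i ⁻¹ᵁ U.1) := U.2.preimage i
  have hyV : y ∈ i ⁻¹ᵁ U.1 := hy
  have hjv : ∀ k, (jv i y (gs _ hy (el k)) : X.presheaf.stalk (i y)) = X.presheaf.germ U.1 (i y) hy (f k) :=
    fun k => (jv₀_gs i.ker hy (el k)).trans (congrArg _ (hel k))
  obtain ⟨O, hO, mm, rfl⟩ := exists_gs M p
  obtain ⟨V', hV', hyV', hle⟩ := exists_isAffineOpen_mem_and_subset (x := y) (U := i ⁻¹ᵁ U.1 ⊓ O) ⟨hyV, hO⟩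
  have h1 : V' ≤ i ⁻¹ᵁ U.1 := fun z hz => (hle hz).1
  have h2 : V' ≤ O := fun z hz => (hle hz).2
  let l := (φ ⟨_, hV⟩).symm (wι (Omega.conormal i) n ⟨_, hV⟩ fun j => conormalSect i U.1 (el (g j)))
  have e1 : Groth.L00.Stk.τfun y M L (gs M hO mm ⊗ₜ gs L hyV l) =
      gs (CohB1.tensorMod M L) hyV' (Groth.L18.GenLoc.tens M L V' (rs M h2 mm) (rs L h1 l)) := by
    refine Eq.trans ?_ (Groth.L00.Stk.τfun_tmul y M L hyV' (rs M h2 mm) (rs L h1 l))
    rw [← gs_rs M h2 hyV' mm, ← gs_rs L h1 hyV' l]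
  have e2 : rs L h1 l = (φ ⟨V', hV'⟩).symm
      (wι (Omega.conormal i) n ⟨V', hV'⟩ fun j => rs (Omega.conormal i) h1 (conormalSect i U.1 (el (g j)))) := by
    refine (φ ⟨V', hV'⟩).injective ?_
    rw [LinearEquiv.apply_symm_apply]
    refine (hres ⟨_, hV⟩ ⟨V', hV'⟩ h1 _).trans ?_
    rw [LinearEquiv.apply_symm_apply, wres_ι]
  refine (congrArg (stl Φs y) e1).trans ?_
  rw [stl_gs, e2, hΦ ⟨V', hV'⟩, gs_sec,
    Θ_eq i S n y (fun j => gs _ hy (el (g j))) (unc i y (gs M hO mm))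
      (fun j => ((pm_gs i (ClSub.idealMod i.ker) hy (el (g j))).trans
        (gs_rs (Omega.conormal i) h1 hyV' (conormalSect i U.1 (el (g j)))).symm))
      ((c₀_unc i y (gs M hO mm)).trans (gs_rs M h2 hyV' mm).symm)]
  unfold θ
  refine congrArg (ψ i S n y) ?_
  exact φ_eq (smul_stalk_push_eq_zero i M y) _ hξ (fun j => Pi.single (g j) 1) _ (fun j => by
    rw [hjv]; simp [Fintype.linearCombination_apply_single]) (unc i y (gs M hO mm))

theorem bijective_stalk_Φ (h : HasFrames i) (hM : FlatMod.IsFinLocFree M)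
    (φ : ∀ U : Y.affineOpens, (L.val.obj (op U.1)) ≃ₗ[Γ(Y, U.1)] W (Omega.conormal i) n U)
    (hres : ∀ (U V : Y.affineOpens) (hVU : V.1 ≤ U.1) (s : Γ(L, U.1)),
      φ V (rs L hVU s) = wres (Omega.conormal i) n hVU (φ U s))
    (Φs : CohB1.tensorMod M L ⟶ Hs i S n)
    (hΦ : ∀ (U : Y.affineOpens) (m : Γ(M, U.1)) (v : Fin n → Γ(Omega.conormal i, U.1)),
      Φs.app U.1 (Groth.L18.GenLoc.tens M L U.1 m ((φ U).symm (wι (Omega.conormal i) n U v))) = sec i S v m)
    (y : Y) : Function.Bijective (stl Φs y) := by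
  classical
  obtain ⟨U, hy, c, f, el, hel, hqr, hker, hreg, hspan⟩ := exists_frame i h y
  have hV : IsAffineOpen (i ⁻¹ᵁ U.1) := U.2.preimage i
  have hyV : y ∈ i ⁻¹ᵁ U.1 := hy
  let e : Fin c → Γ(Omega.conormal i, i ⁻¹ᵁ U.1) := fun k => conormalSect i U.1 (el k)
  have he : Groth.L19.ConormalBasis.IsBasisS (Omega.conormal i) e :=
    Groth.L19.ConormalBasis.isBasisS_conormalSect i U hqr hker hel
  obtain ⟨U₀, r, hyU₀, ⟨iM⟩⟩ := hM y
  obtain ⟨mb⟩ : Nonempty (Module.Basis (Fin r) (Y.presheaf.stalk y) ((Groth.L00.Stk.F Y y).obj M)) :=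
    Groth.L15.Ref.exists_basis_stalk_of_iso U₀.ι iM ⟨y, hyU₀⟩
  let A := X.presheaf.stalk (i y)
  let σ := (i.stalkMap y).hom
  let ξ : (Fin c → A) →ₗ[A] A :=
    Fintype.linearCombination A fun k => (X.presheaf.germ U.1 (i y) hy (f k) : A)
  have hξr : LinearMap.range ξ = stIdeal i y := by
    rw [Fintype.range_linearCombination, ← hspan]
  have hξ : ∀ x, ξ x ∈ stIdeal i y := fun x => hξr ▸ LinearMap.mem_range_self ξ x
  have hjv : ∀ k, (jv i y (gs _ hy (el k)) : A) = X.presheaf.germ U.1 (i y) hy (f k) := fun k =>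
    (jv₀_gs i.ker hy (el k)).trans (congrArg _ (hel k))
  let t : Fin r → (Groth.L00.Stk.F X (i y)).obj ((Scheme.Modules.pushforward i).obj M) := fun a => unc i y (mb a)
  have hc₀ : ∀ a : Fin r → A, Groth.L17.ClosedPush.c₀ i M y (∑ k, a k • t k) = ∑ k, σ (a k) • mb k := fun a => by
    rw [map_sum]
    refine Finset.sum_congr rfl fun k _ => ?_
    exact (Groth.L17.ClosedPush.c₀_smul i M y _ _).trans (congrArg _ (c₀_unc i y (mb k)))
  have hgen : ∀ x, ∃ a : Fin r → A, ∑ k, a k • t k = x := fun x => by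
    choose a ha using fun k => i.stalkMap_surjective y (mb.repr (Groth.L17.ClosedPush.c₀ i M y x) k)
    refine ⟨a, (Groth.L17.ClosedPush.c₀_bijective i M y).1 ?_⟩
    rw [hc₀]
    exact (Finset.sum_congr rfl fun k _ => congrArg (· • mb k) (ha k)).trans (mb.sum_repr _)
  have hindep : ∀ a : Fin r → A, ∑ k, a k • t k = 0 → ∀ k, a k ∈ stIdeal i y := fun a ha k => by
    have h1 := hc₀ a
    rw [ha, map_zero] at h1
    exact RingHom.mem_ker.2 (Fintype.linearIndependent_iff.1 mb.linearIndependent _ h1.symm k)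
  have hreg' : ∀ (n : ℕ) (z : ⋀[A]^(n + 1) (Fin c → A)), kD ξ n z = 0 → ∃ w, kD ξ (n + 1) w = z := by
    intro n z hz
    have e1 : (fun k => ξ (Pi.basisFun A (Fin c) k)) = fun k => (X.presheaf.germ U.1 (i y) hy (f k) : A) :=
      funext fun k => by simp [ξ, Fintype.linearCombination_apply_single]
    obtain ⟨w, hw, hDw⟩ := Groth.L29.Blow.exact_of_koszul (Pi.basisFun A (Fin c)) ξ (by rw [e1]; exact hreg) n z.2
      (by rw [← coe_kD, hz]; rfl)
    exact ⟨⟨w, hw⟩, Subtype.ext ((coe_kD ξ (n + 1) _).trans hDw)⟩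
  obtain ⟨hsurj, hinj⟩ := bijective_Φ (R := S.stalk (i y)) (J := stIdeal i y) t ξ hreg' hξr
    (smul_stalk_push_eq_zero i M y) hξ hgen hindep n
  let G := Fin n ↪o Fin c
  let l : G → Γ(L, i ⁻¹ᵁ U.1) := fun g =>
    (φ ⟨_, hV⟩).symm (wι (Omega.conormal i) n ⟨_, hV⟩ fun j => e (g j))
  let Te : Fin r → G → (Groth.L00.Stk.F Y y).obj (CohB1.tensorMod M L) := fun a g =>
    Groth.L00.Stk.τfun y M L (mb a ⊗ₜ gs L hyV (l g))
  have hTe : ∀ a g, stl Φs y (Te a g) =
      ψ i S n y (Φ (S.stalk (i y)) (stIdeal i y) (smul_stalk_push_eq_zero i M y) ξ hξ n (t a) (ew A g)) :=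
    fun a g => stl_τ i S φ hres Φs hΦ U hy el f hel hξ (mb a) g
  let F : (Fin r → G → Y.presheaf.stalk y) → (Groth.L00.Stk.F Y y).obj (CohB1.tensorMod M L) := fun b =>
    ∑ a, ∑ g, b a g • Te a g
  have hFsurj : Function.Surjective F := by
    intro z
    obtain ⟨z', rfl⟩ := (Groth.L00.Stk.τfun_bijective y M L).2 z
    induction z' using TensorProduct.induction_on with
    | zero => exact ⟨0, by simp [F]⟩
    | tmul p q =>
      obtain ⟨b, hb⟩ := exists_span_germs i he φ hres hV y hyV q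
      refine ⟨fun a g => mb.repr p a * b g, ?_⟩
      conv_rhs => rw [← mb.sum_repr p, ← hb]
      simp only [TensorProduct.sum_tmul, TensorProduct.tmul_sum, map_sum, F, Te, l]
      rw [Finset.sum_comm]
      refine Finset.sum_congr rfl fun g _ => Finset.sum_congr rfl fun a _ => ?_
      rw [TensorProduct.tmul_smul, ← TensorProduct.smul_tmul', smul_smul, mul_comm]
      exact (Groth.L00.Stk.τfun_smul y M L _ _).symm
    | add p q hp hq =>
      obtain ⟨b, hb⟩ := hp
      obtain ⟨b', hb'⟩ := hq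
      exact ⟨b + b', by
        rw [map_add, ← hb, ← hb']
        simp only [F, Pi.add_apply, add_smul, Finset.sum_add_distrib]⟩
  let Yc : (Fin r → G → A) → Fin r → ⋀[A]^n (Fin c → A) := fun b a => ∑ g, b a g • ew A g
  have key : ∀ b : Fin r → G → A, stl Φs y (F fun a g => σ (b a g)) =
      ψ i S n y (∑ a, Φ (S.stalk (i y)) (stIdeal i y) (smul_stalk_push_eq_zero i M y) ξ hξ n (t a) (Yc b a)) := by
    intro b
    simp only [F, Yc, map_sum, map_smul, hTe, LinearMap.map_smulₛₗ]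
    rfl
  refine ⟨(injective_iff_map_eq_zero _).2 fun z hz => ?_, fun v => ?_⟩
  · obtain ⟨b, rfl⟩ := hFsurj z
    choose b' hb' using fun a g => i.stalkMap_surjective y (b a g)
    obtain rfl : b = fun a g => σ (b' a g) := funext fun a => funext fun g => (hb' a g).symm
    rw [key] at hz
    have h0 := hinj (Yc b') (ψ_injective i S n y (hz.trans (map_zero _).symm))
    have hb0 : ∀ a g, σ (b' a g) = 0 := fun a g => by
      have hc := map_mem_smul (((Pi.basisFun A (Fin c)).exteriorPower n).coord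
        (Set.powersetCard.ofFinEmbEquiv g)) (h0 a)
      have hval : ((Pi.basisFun A (Fin c)).exteriorPower n).coord (Set.powersetCard.ofFinEmbEquiv g) (Yc b' a) =
          b' a g := by
        simp only [Yc, ew_eq_basis, map_sum, map_smul, Module.Basis.coord_apply, Module.Basis.repr_self]
        rw [Finset.sum_eq_single g (fun x _ hx => by
          rw [Finsupp.single_eq_of_ne (fun he => hx (Set.powersetCard.ofFinEmbEquiv.injective he.symm)), smul_zero])
          (fun hg => absurd (Finset.mem_univ g) hg), Finsupp.single_eq_same, smul_eq_mul, mul_one]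
      rw [hval, smul_eq_mul, Ideal.mul_top] at hc
      exact RingHom.mem_ker.1 hc
    simp [F, hb0]
  · obtain ⟨v', rfl⟩ := ψ_surjective i S n y v
    obtain ⟨Y', hY'⟩ := hsurj v'
    refine ⟨F fun a g => σ (((Pi.basisFun A (Fin c)).exteriorPower n).repr (Y' a)
      (Set.powersetCard.ofFinEmbEquiv g)), ?_⟩
    rw [key, ← hY']
    refine congrArg _ (Finset.sum_congr rfl fun a _ => congrArg _ ?_)
    refine Eq.trans ?_ (((Pi.basisFun A (Fin c)).exteriorPower n).sum_repr (Y' a))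
    exact Fintype.sum_equiv Set.powersetCard.ofFinEmbEquiv _ _ fun g => by rw [ew_eq_basis]

/-- `H^{-n} (i^* R) ≅ M ⊗ ∧^n C`. -/
theorem nonempty_iso_Hs (h : HasFrames i) (hM : FlatMod.IsFinLocFree M)
    (hL : ExtPow.IsExtPow n (Omega.conormal i) L) : Nonempty (CohB1.tensorMod M L ≅ Hs i S n) := by
  obtain ⟨φ, Φs, hres, hΦ⟩ := exists_Φ i S hL
  haveI : IsIso Φs := (Groth.L21.Mod.isIso_iff_stalk_bijective Φs).2 fun y =>
    bijective_stalk_Φ i S h hM φ hres Φs hΦ y
  exact ⟨asIso Φs⟩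

end Groth.L29.TorExt
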