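import Groth.Agent.L29.TorExt.SheafRes
import Groth.Agent.L14.Quot.Pull

/-!
# Homology of the pulled back resolution at a point
-/

set_option autoImplicit false
set_option backward.isDefEq.respectTransparency false
set_option backward.isDefEq.respectTransparency.types false
set_option linter.style.haveILetI false

universe u

open CategoryTheory CategoryTheory.Limits AlgebraicGeometry TopologicalSpace Opposite

noncomputable section

namespace Groth.L29.TorExt

variable {X Y : Scheme.{u}} (i : Y ⟶ X) [IsClosedImmersion i] {T : X.Modules} (S : SheafRes T)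

/-- The pulled back resolution. -/
abbrev pullCx : CochainComplex Y.Modules ℤ :=
  ((Scheme.Modules.pullback i).mapHomologicalComplex (ComplexShape.up ℤ)).obj S.R

/-- Its homology in degree `-n`. -/
abbrev Hs (n : ℕ) : Y.Modules := (pullCx i S).homology (deg n)

/-- The ideal at a point. -/
abbrev stIdeal (y : Y) : Ideal (X.presheaf.stalk (i y)) := RingHom.ker (i.stalkMap y).hom

instance (y : Y) : RingHomSurjective (i.stalkMap y).hom := ⟨i.stalkMap_surjective y⟩

/-- Pulling back germs of the terms. -/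
def η (n : ℕ) (y : Y) :
    (S.stalk (i y)).obj n →ₛₗ[(i.stalkMap y).hom]
      (Groth.L00.Stk.F Y y).obj ((pullCx i S).X (deg n)) :=
  Groth.L14.Quot.pm i (S.R.X (deg n)) y

theorem η_surjective (n : ℕ) (y : Y) : Function.Surjective (η i S n y) :=
  Groth.L14.Quot.pm_surjective i (S.R.X (deg n)) y

theorem η_eq_zero_iff (n : ℕ) (y : Y) (r : (S.stalk (i y)).obj n) :
    η i S n y r = 0 ↔ r ∈ stIdeal i y • (⊤ : Submodule (X.presheaf.stalk (i y)) ((S.stalk (i y)).obj n)) :=
  Groth.L14.Quot.pm_eq_zero_iff i (S.R.X (deg n)) y r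

theorem η_d (n : ℕ) (y : Y) (r : (S.stalk (i y)).obj (n + 1)) :
    stl ((pullCx i S).d (deg (n + 1)) (deg n)) y (η i S (n + 1) y r) = η i S n y ((S.stalk (i y)).d n r) :=
  Groth.L14.Quot.pm_natural i (S.R.d (deg (n + 1)) (deg n)) y r

/-- The index after `-n`. -/
abbrev nxt : ℕ → ℤ
  | 0 => 1
  | n + 1 => deg n

theorem next_deg : ∀ n, (ComplexShape.up ℤ).next (deg n) = nxt n
  | 0 => (ComplexShape.up ℤ).next_eq' (by simp [deg, nxt])
  | n + 1 => (ComplexShape.up ℤ).next_eq' (rel_deg n)

theorem η_cycle : ∀ (n : ℕ) (y : Y) (r : (S.stalk (i y)).obj n), r ∈ Z (S.stalk (i y)) (stIdeal i y) n →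
    stl ((pullCx i S).d (deg n) (nxt n)) y (η i S n y r) = 0
  | 0, y, r, _ => by
    have h : (pullCx i S).d (deg 0) (nxt 0) = 0 :=
      ((Scheme.Modules.pullback i).map_isZero S.isZero_succ).eq_of_tgt _ _
    rw [h, stl_zero]
  | n + 1, y, r, hr => by
    rw [show (pullCx i S).d (deg (n + 1)) (nxt (n + 1)) = (pullCx i S).d (deg (n + 1)) (deg n) from rfl, η_d,
      η_eq_zero_iff]
    exact hr

theorem mem_Z_of_η : ∀ (n : ℕ) (y : Y) (r : (S.stalk (i y)).obj n),
    stl ((pullCx i S).d (deg n) (nxt n)) y (η i S n y r) = 0 → r ∈ Z (S.stalk (i y)) (stIdeal i y) n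
  | 0, _, _, _ => trivial
  | n + 1, y, r, hr => by
    rw [show (pullCx i S).d (deg (n + 1)) (nxt (n + 1)) = (pullCx i S).d (deg (n + 1)) (deg n) from rfl, η_d,
      η_eq_zero_iff] at hr
    exact hr

theorem exists_cycle (n : ℕ) (y : Y) (z : Z (S.stalk (i y)) (stIdeal i y) n) :
    ∃ w, stl ((pullCx i S).iCycles (deg n)) y w = η i S n y (z : (S.stalk (i y)).obj n) :=
  exact_stl (ShortComplex.exact_of_f_is_kernel (ShortComplex.mk _ _ ((pullCx i S).iCycles_d (deg n) (nxt n)))
    ((pullCx i S).cyclesIsKernel (deg n) (nxt n) (next_deg n))) y _ (η_cycle i S n y _ z.2)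

/-- The cycle at a point, as a function. -/
def wfun (n : ℕ) (y : Y) (z : Z (S.stalk (i y)) (stIdeal i y) n) :
    (Groth.L00.Stk.F Y y).obj ((pullCx i S).cycles (deg n)) :=
  (exists_cycle i S n y z).choose

theorem wfun_spec (n : ℕ) (y : Y) (z : Z (S.stalk (i y)) (stIdeal i y) n) :
    stl ((pullCx i S).iCycles (deg n)) y (wfun i S n y z) = η i S n y (z : (S.stalk (i y)).obj n) :=
  (exists_cycle i S n y z).choose_spec

attribute [irreducible] wfun

theorem wfun_add (n : ℕ) (y : Y) (z z' : Z (S.stalk (i y)) (stIdeal i y) n) :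
    wfun i S n y (z + z') = wfun i S n y z + wfun i S n y z' := by
  have e1 := wfun_spec i S n y (z + z')
  have e2 := wfun_spec i S n y z
  have e3 := wfun_spec i S n y z'
  have e4 : stl ((pullCx i S).iCycles (deg n)) y (wfun i S n y z + wfun i S n y z') =
      η i S n y (z : (S.stalk (i y)).obj n) + η i S n y (z' : (S.stalk (i y)).obj n) :=
    (map_add _ _ _).trans (congrArg₂ _ e2 e3)
  exact stl_injective ((pullCx i S).iCycles (deg n)) y
    ((e1.trans ((η i S n y).map_add _ _)).trans e4.symm)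

theorem wfun_smul (n : ℕ) (y : Y) (a : X.presheaf.stalk (i y)) (z : Z (S.stalk (i y)) (stIdeal i y) n) :
    wfun i S n y (a • z) = (i.stalkMap y).hom a • wfun i S n y z := by
  have e1 := wfun_spec i S n y (a • z)
  have e2 := wfun_spec i S n y z
  have e3 : stl ((pullCx i S).iCycles (deg n)) y ((i.stalkMap y).hom a • wfun i S n y z) =
      (i.stalkMap y).hom a • η i S n y (z : (S.stalk (i y)).obj n) :=
    (map_smul _ _ _).trans (congrArg _ e2)
  exact stl_injective ((pullCx i S).iCycles (deg n)) y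
    ((e1.trans ((η i S n y).map_smulₛₗ a _)).trans e3.symm)

/-- The cycle at a point attached to a cycle modulo the ideal. -/
def wlin (n : ℕ) (y : Y) :
    Z (S.stalk (i y)) (stIdeal i y) n →ₛₗ[(i.stalkMap y).hom]
      (Groth.L00.Stk.F Y y).obj ((pullCx i S).cycles (deg n)) where
  toFun := wfun i S n y
  map_add' := wfun_add i S n y
  map_smul' := wfun_smul i S n y

theorem wlin_spec (n : ℕ) (y : Y) (z : Z (S.stalk (i y)) (stIdeal i y) n) :
    stl ((pullCx i S).iCycles (deg n)) y (wlin i S n y z) = η i S n y (z : (S.stalk (i y)).obj n) :=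
  wfun_spec i S n y z

theorem homologyπ_wlin_eq_zero_iff (n : ℕ) (y : Y) (z : Z (S.stalk (i y)) (stIdeal i y) n) :
    stl ((pullCx i S).homologyπ (deg n)) y (wlin i S n y z) = 0 ↔
      (z : (S.stalk (i y)).obj n) ∈ B (S.stalk (i y)) (stIdeal i y) n := by
  constructor
  · intro h
    obtain ⟨v, hv⟩ := exact_stl (ShortComplex.exact_of_g_is_cokernel
      (ShortComplex.mk _ _ ((pullCx i S).toCycles_comp_homologyπ (deg (n + 1)) (deg n)))
      ((pullCx i S).homologyIsCokernel (deg (n + 1)) (deg n) ((ComplexShape.up ℤ).prev_eq' (rel_deg n)))) y _ h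
    obtain ⟨r, hr⟩ := η_surjective i S (n + 1) y v
    have h1 : η i S n y (z : (S.stalk (i y)).obj n) = η i S n y ((S.stalk (i y)).d n r) := by
      rw [← wlin_spec, ← hv, stl_comp, ← η_d i S n y r, hr]
      exact congrArg (fun f => stl f y v) ((pullCx i S).toCycles_i _ _)
    rw [← sub_eq_zero, ← map_sub, η_eq_zero_iff] at h1
    rw [show (z : (S.stalk (i y)).obj n) = (S.stalk (i y)).d n r + ((z : (S.stalk (i y)).obj n) - (S.stalk (i y)).d n r)
      by abel]
    exact add_mem (Submodule.mem_sup_left ⟨r, rfl⟩) (Submodule.mem_sup_right h1)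
  · intro h
    obtain ⟨_, ⟨r, rfl⟩, j, hj, hz⟩ := Submodule.mem_sup.1 h
    have h1 : wlin i S n y z = stl ((pullCx i S).toCycles (deg (n + 1)) (deg n)) y (η i S (n + 1) y r) := by
      refine stl_injective ((pullCx i S).iCycles (deg n)) y ?_
      rw [wlin_spec, ← hz, map_add, (η_eq_zero_iff i S n y j).2 hj, add_zero, stl_comp,
        HomologicalComplex.toCycles_i]
      exact (η_d i S n y r).symm
    rw [h1, stl_comp, HomologicalComplex.toCycles_comp_homologyπ, stl_zero]

/-- The stalk of the homology of the pullback is the homology modulo the ideal. -/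
def ψ (n : ℕ) (y : Y) :
    H (S.stalk (i y)) (stIdeal i y) n →ₛₗ[(i.stalkMap y).hom] (Groth.L00.Stk.F Y y).obj (Hs i S n) :=
  Submodule.liftQ _ ((stl ((pullCx i S).homologyπ (deg n)) y).comp (wlin i S n y)) fun z hz =>
    (homologyπ_wlin_eq_zero_iff i S n y z).2 hz

theorem ψ_cls (n : ℕ) (y : Y) (z : Z (S.stalk (i y)) (stIdeal i y) n) :
    ψ i S n y (cls n z) = stl ((pullCx i S).homologyπ (deg n)) y (wlin i S n y z) := rfl

theorem ψ_injective (n : ℕ) (y : Y) : Function.Injective (ψ i S n y) := by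
  rw [injective_iff_map_eq_zero]
  intro h hh
  induction h using Submodule.Quotient.induction_on with
  | H z => exact (cls_eq_zero z).2 ((homologyπ_wlin_eq_zero_iff i S n y z).1 hh)

theorem ψ_surjective (n : ℕ) (y : Y) : Function.Surjective (ψ i S n y) := by
  intro v
  obtain ⟨w, rfl⟩ := stl_surjective ((pullCx i S).homologyπ (deg n)) y v
  obtain ⟨r, hr⟩ := η_surjective i S n y (stl ((pullCx i S).iCycles (deg n)) y w)
  have hz : r ∈ Z (S.stalk (i y)) (stIdeal i y) n := mem_Z_of_η i S n y r (by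
    rw [hr, stl_comp, HomologicalComplex.iCycles_d, stl_zero])
  refine ⟨cls n ⟨r, hz⟩, ?_⟩
  rw [ψ_cls]
  refine congrArg _ (stl_injective ((pullCx i S).iCycles (deg n)) y ?_)
  exact (wlin_spec i S n y ⟨r, hz⟩).trans hr

end Groth.L29.TorExt
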