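import Groth.Agent.L29.DCoh.Flat
import Groth.Agent.L29.TorExt.Bij
import Groth.Agent.L00.StalkFunctor
import Mathlib.Algebra.Homology.ShortComplex.ModuleCat

/-!
# Flat resolutions of a sheaf of modules and their stalks
-/

set_option autoImplicit false
set_option backward.isDefEq.respectTransparency false
set_option backward.isDefEq.respectTransparency.types false
set_option linter.style.haveILetI false

universe u

open CategoryTheory CategoryTheory.Limits AlgebraicGeometry TopologicalSpace Opposite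

noncomputable section

namespace Groth.L29.TorExt

variable {X : Scheme.{u}}

/-- A flat resolution by a complex in degrees `≤ 0`. -/
structure SheafRes (T : X.Modules) where
  R : CochainComplex X.Modules ℤ
  le : R.IsStrictlyLE 0
  kflat : DCoh.IsKFlat R
  flat : ∀ n, FlatMod.IsFlat (R.X n)
  q : R ⟶ (HomologicalComplex.single X.Modules (ComplexShape.up ℤ) 0).obj T
  qis : QuasiIso q

theorem exists_sheafRes (T : X.Modules) : Nonempty (SheafRes T) := by
  obtain ⟨P, q, h1, h2, h3, h4⟩ :=
    Groth.L29.DC.exists_flat_resolution_le ((HomologicalComplex.single X.Modules (ComplexShape.up ℤ) 0).obj T) 0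
  exact ⟨⟨P, h1, h2, h3, q, h4⟩⟩

/-- The degrees `-n`. -/
abbrev deg (n : ℕ) : ℤ := -(n : ℤ)

theorem rel_deg (n : ℕ) : (ComplexShape.up ℤ).Rel (deg (n + 1)) (deg n) := by
  show deg (n + 1) + 1 = deg n
  simp only [deg]; push_cast; ring

variable {T : X.Modules} (S : SheafRes T)

/-- The augmentation. -/
def SheafRes.aug : S.R.X (deg 0) ⟶ T :=
  S.q.f (deg 0) ≫ (HomologicalComplex.singleObjXIsoOfEq (ComplexShape.up ℤ) 0 T (deg 0) (by simp [deg])).hom

theorem SheafRes.isZero_succ : IsZero (S.R.X 1) := by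
  haveI := S.le
  exact S.R.isZero_of_isStrictlyLE 0 1 (by omega)

theorem SheafRes.d_aug : S.R.d (deg 1) (deg 0) ≫ S.aug = 0 := by
  rw [SheafRes.aug, ← S.q.comm_assoc, HomologicalComplex.single_obj_d, zero_comp, comp_zero]

theorem SheafRes.exact_deg (n : ℕ) :
    (ShortComplex.mk (S.R.d (deg (n + 2)) (deg (n + 1))) (S.R.d (deg (n + 1)) (deg n)) (S.R.d_comp_d _ _ _)).Exact := by
  have h := (quasiIsoAt_iff_exactAt' S.q (deg (n + 1))
    (HomologicalComplex.exactAt_single_obj _ _ _ _ (by simp only [deg]; omega))).1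
      (haveI := S.qis; inferInstance)
  exact (S.R.exactAt_iff' (deg (n + 2)) (deg (n + 1)) (deg n)
    ((ComplexShape.up ℤ).prev_eq' (rel_deg (n + 1))) ((ComplexShape.up ℤ).next_eq' (rel_deg n))).1 h

theorem SheafRes.exact_aug :
    (ShortComplex.mk (S.R.d (deg 1) (deg 0)) S.aug S.d_aug).Exact ∧ Epi S.aug := by
  haveI := S.qis
  have h := (quasiIsoAt_iff' S.q (deg 1) (deg 0) 1 ((ComplexShape.up ℤ).prev_eq' (rel_deg 0))
    ((ComplexShape.up ℤ).next_eq' (by simp [deg]))).1 (inferInstance : QuasiIsoAt S.q (deg 0))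
  rw [ShortComplex.quasiIso_iff_of_zeros'] at h
  · obtain ⟨h1, h2⟩ := h
    refine ⟨?_, ?_⟩
    · refine (ShortComplex.exact_iff_of_iso ?_).1 h1
      exact ShortComplex.isoMk (Iso.refl _) (Iso.refl _)
        (HomologicalComplex.singleObjXIsoOfEq (ComplexShape.up ℤ) 0 T (deg 0) (by simp [deg]))
        (by simp) (by simp [SheafRes.aug])
    · haveI : Epi (S.q.f (deg 0)) := h2
      exact epi_comp _ _
  · exact S.isZero_succ.eq_of_tgt _ _
  · exact HomologicalComplex.single_obj_d (c := ComplexShape.up ℤ) 0 T _ _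
  · exact HomologicalComplex.single_obj_d (c := ComplexShape.up ℤ) 0 T _ _

/-- Stalks of maps, as linear maps. -/
abbrev stl {M N : X.Modules} (f : M ⟶ N) (x : X) :
    (Groth.L00.Stk.F X x).obj M →ₗ[X.presheaf.stalk x] (Groth.L00.Stk.F X x).obj N :=
  ((Groth.L00.Stk.F X x).map f).hom

theorem stl_comp {M N P : X.Modules} (f : M ⟶ N) (g : N ⟶ P) (x : X)
    (v : (Groth.L00.Stk.F X x).obj M) : stl g x (stl f x v) = stl (f ≫ g) x v := by
  rw [stl, stl, stl, Functor.map_comp]; rfl

theorem stl_zero {M N : X.Modules} (x : X) (v : (Groth.L00.Stk.F X x).obj M) :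
    stl (0 : M ⟶ N) x v = 0 := by
  haveI : (Groth.L00.Stk.F X x).Additive := DerSch.additive_stalkFunctor x
  rw [stl, Functor.map_zero]; rfl

theorem exact_stl {K : ShortComplex X.Modules} (h : K.Exact) (x : X) :
    ∀ v, stl K.g x v = 0 → ∃ w, stl K.f x w = v := by
  haveI : (Groth.L00.Stk.F X x).Additive := DerSch.additive_stalkFunctor x
  exact (ShortComplex.moduleCat_exact_iff _).1 (h.map (Groth.L00.Stk.F X x))

theorem stl_surjective {M N : X.Modules} (f : M ⟶ N) [Epi f] (x : X) : Function.Surjective (stl f x) :=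
  (ModuleCat.epi_iff_surjective _).1 inferInstance

theorem stl_injective {M N : X.Modules} (f : M ⟶ N) [Mono f] (x : X) : Function.Injective (stl f x) :=
  (ModuleCat.mono_iff_injective _).1 inferInstance

/-- The resolution at a point. -/
def SheafRes.stalk (x : X) : Res (X.presheaf.stalk x) ((Groth.L00.Stk.F X x).obj T) where
  obj n := (Groth.L00.Stk.F X x).obj (S.R.X (deg n))
  d n := stl (S.R.d (deg (n + 1)) (deg n)) x
  ε := stl S.aug x
  d_d n r := by rw [stl_comp, S.R.d_comp_d, stl_zero]
  ε_d r := by rw [stl_comp, S.d_aug, stl_zero]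
  ε_surj := by haveI := S.exact_aug.2; exact stl_surjective _ x
  exact_zero r hr := exact_stl S.exact_aug.1 x r hr
  exact_succ n r hr := exact_stl (S.exact_deg n) x r hr

instance SheafRes.flat_stalk (x : X) (n : ℕ) :
    Module.Flat (X.presheaf.stalk x) ((S.stalk x).obj n) := S.flat (deg n) x

end Groth.L29.TorExt
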